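import Cfsg.Agent.Lib.Fus.Detect
import Cfsg.Agent.Lib.Fus.Invariant
import Cfsg.Agent.Lib.Fus.Centric
import Cfsg.Agent.Lib.Fus2.Hyper

/-!
Control of fusion by subgroups of small exponent (Benson–Grodal–Henke) and related criteria.
-/

set_option autoImplicit false

namespace Cfsg.Agent.Fus

open Cfsg Cfsg.FusionSystem Cfsg.Agent.Fus2

variable {Ω : Type*} [Group Ω] {S : Subgroup Ω} {F E : FusionSystem S} {P Q R U : Subgroup Ω}
  {p : ℕ}

section Detect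

theorem mapsTo_subgroupOf {α : MulAut P} (h : ∀ x ∈ P, x ∈ U → afn α x ∈ U) :
    ∀ x ∈ U.subgroupOf P, α x ∈ U.subgroupOf P := fun x hx => by
  have := h x x.2 hx
  rwa [afn_coe] at this

theorem pow_eq_one_of_pfix [Finite P] (hP : IsPGroup p P) {α : MulAut P}
    (h : PFix p α (U.subgroupOf P)) (h' : ∃ k : ℕ, α ^ p ^ k ∈ trivMod P U) :
    ∃ k : ℕ, α ^ p ^ k = 1 := by
  obtain ⟨k, hk⟩ := h'
  obtain ⟨m, hm⟩ := h
  obtain ⟨n, hn⟩ := exists_pow_eq_one_of_fix hP (Q := U) (α := α ^ p ^ (k + m))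
    (fun x hx hxU => by
      rw [afn_apply _ hx, add_comm, pow_add, pow_mul, aut_pow_fix (hm ⟨x, hx⟩ hxU)])
    (by rw [pow_add, pow_mul]; exact (trivMod P U).pow_mem hk _)
  exact ⟨k + m + n, by rw [pow_add, pow_mul, hn]⟩

theorem exists_detect_in [Finite P] [Fact p.Prime] (hP : IsPGroup p P) (U : Subgroup Ω) :
    ∃ D ≤ P ⊓ U,
      (∀ α : MulAut P, (∀ x ∈ P, x ∈ U → afn α x ∈ U) → ∀ x ∈ D, afn α x ∈ D) ∧
      (∀ x ∈ D, x ^ smallExp p = 1) ∧
      ∀ α : MulAut P, (∀ x ∈ P, x ∈ U → afn α x ∈ U) → (∀ x ∈ D, afn α x = x) →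
        PFix p α (U.subgroupOf P) := by
  obtain ⟨D, hDU, h1, h2, h3⟩ := exists_detect_sub hP (U.subgroupOf P)
  refine ⟨D.map P.subtype, ?_, ?_, ?_, ?_⟩
  · rintro _ ⟨x, hx, rfl⟩
    exact ⟨x.2, hDU hx⟩
  · rintro α hα _ ⟨x, hx, rfl⟩
    exact ⟨α x, h1 α (mapsTo_subgroupOf hα) x hx, (afn_coe α x).symm⟩
  · rintro _ ⟨x, hx, rfl⟩
    rw [← map_pow, h2 x hx, map_one]
  · intro α hα h
    exact h3 α (mapsTo_subgroupOf hα) fun x hx =>
      Subtype.ext ((afn_coe α x).symm.trans (h _ ⟨x, hx, rfl⟩))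

theorem exists_detect_abelian_in [Finite P] [Fact p.Prime] (hP : IsPGroup p P)
    (hU : ∀ g ∈ P, ∀ x ∈ U, g * x * g⁻¹ ∈ U) :
    ∃ A ≤ P ⊓ U, P ≤ Subgroup.normalizer (A : Set Ω) ∧ IsMulCommutative A ∧
      (∀ x ∈ A, x ^ smallExp p = 1) ∧
      ∀ α : MulAut P, (∀ x ∈ P, x ∈ U → afn α x ∈ U) → (∀ x ∈ A, afn α x = x) →
        PFix p α (U.subgroupOf P) := by
  have : (U.subgroupOf P).Normal := ⟨fun x hx g => hU g g.2 x hx⟩
  obtain ⟨A, hAU, hn, hc, h2, h3⟩ := exists_detect_abelian hP (U.subgroupOf P)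
  have := finite_of_le (Subgroup.map_subtype_le A)
  refine ⟨A.map P.subtype, ?_, fun g hg => mem_normalizer_of_conj_mem ?_, inferInstance, ?_, ?_⟩
  · rintro _ ⟨x, hx, rfl⟩
    exact ⟨x.2, hAU hx⟩
  · rintro _ ⟨x, hx, rfl⟩
    exact ⟨_, hn.conj_mem x hx ⟨g, hg⟩, rfl⟩
  · rintro _ ⟨x, hx, rfl⟩
    rw [← map_pow, h2 x hx, map_one]
  · intro α hα h
    exact h3 α (mapsTo_subgroupOf hα) fun x hx =>
      Subtype.ext ((afn_coe α x).symm.trans (h _ ⟨x, hx, rfl⟩))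

theorem exists_pow_mem_trivMod_hyp [Finite S] [Fact p.Prime] (hP : P ≤ S) {α : MulAut P}
    (hα : α ∈ F.autGroup P) : ∃ k : ℕ, α ^ p ^ k ∈ trivMod P (F.hyperfocalSubgroup p) := by
  have := finite_of_le hP
  have := finite_mulAut P
  obtain ⟨k, hk⟩ := Tr.exists_pow_coprime (p := p) α
  exact ⟨k, fun x hx => mem_hyp_of_coprime hP (Subgroup.pow_mem _ hα _) hk hx⟩

theorem conj_mem_trivMod {α β : MulAut P} (hβ : ∀ x ∈ P, x ∈ U → afn β x ∈ U) (hUP : U ≤ P)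
    (hα : α ∈ trivMod P U) : β * α * β⁻¹ ∈ trivMod P U := fun x hx => by
  have h1 := hα _ (afn_mem β⁻¹ hx)
  have h2 := hβ _ (hUP h1) h1
  rwa [(homOn_afn β).map_mul (P.inv_mem (afn_mem _ hx)) (afn_mem _ (afn_mem _ hx)),
    (homOn_afn β).map_inv (afn_mem _ hx), afn_afn_inv, ← afn_mul, ← afn_mul] at h2

/-- Criterion for membership in `O_p(Aut_F(P))` from the action on elements of order dividing `p`
(or `4`) of an invariant subgroup `U`. -/
theorem mem_autCore_of_small [Finite S] [Fact p.Prime] (hS : IsPGroup p S) (hP : P ≤ S)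
    (hU : ∀ β ∈ F.autGroup P, ∀ x ∈ P, x ∈ U → afn β x ∈ U) {L : Subgroup (MulAut P)}
    (hL : ∀ β ∈ F.autGroup P, ∀ γ ∈ L, β * γ * β⁻¹ ∈ L)
    (hLU : ∀ β ∈ F.autGroup P, β ∈ L → ∃ k : ℕ, β ^ p ^ k ∈ trivMod P U)
    (C : ℕ → Subgroup Ω) (n : ℕ) (hC : ∀ i < n, C i ≤ C (i + 1)) (h0 : C 0 = ⊥)
    (htop : ∀ x ∈ P, x ∈ U → x ^ smallExp p = 1 → x ∈ C n)
    (hinv : ∀ β ∈ F.autGroup P, ∀ i ≤ n, ∀ x ∈ P, x ∈ U → x ^ smallExp p = 1 → x ∈ C i →
      afn β x ∈ C i)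
    {α : MulAut P} (hα : α ∈ F.autGroup P) (hαL : α ∈ L)
    (h : ∀ i < n, ∀ x ∈ P, x ∈ U → x ^ smallExp p = 1 → x ∈ C (i + 1) → x⁻¹ * afn α x ∈ C i) :
    α ∈ autCore F p P := by
  have := finite_of_le hP
  have hPp := isPGroup_of_le hS hP
  obtain ⟨D, hD, h1, h2, h3⟩ := exists_detect_in hPp U
  let C' : ℕ → Subgroup P := fun i => (D ⊓ C i).subgroupOf P
  have hC' : ∀ i < n, C' i ≤ C' (i + 1) := fun i hi =>
    Subgroup.subgroupOf_mono _ (inf_le_inf_left _ (hC i hi))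
  have hinv' : ∀ β ∈ F.autGroup P, ∀ i ≤ n, ∀ x ∈ C' i, β x ∈ C' i := fun β hβ i hi =>
    mapsTo_subgroupOf fun x hx hx' =>
      ⟨h1 β (hU β hβ) x hx'.1, hinv β hβ i hi x hx (hD hx'.1).2 (h2 x hx'.1) hx'.2⟩
  let B : Subgroup (MulAut P) :=
    { carrier := {β | β ∈ F.autGroup P ⊓ L ∧ ∀ i < n, TrivOn β (C' (i + 1)) (C' i)}
      one_mem' := ⟨Subgroup.one_mem _, fun i _ => TrivOn.one _ _⟩
      mul_mem' := fun ha hb => ⟨Subgroup.mul_mem _ ha.1 hb.1,
        fun i hi => (ha.2 i hi).mul (hC' i hi) (hb.2 i hi)⟩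
      inv_mem' := fun ha => ⟨Subgroup.inv_mem _ ha.1, fun i hi => (ha.2 i hi).inv (hC' i hi)⟩ }
  refine le_autCore (B := B) (fun β hβ => hβ.1.1) ?_ ?_ ⟨⟨hα, hαL⟩, fun i hi x hx => ?_⟩
  · rintro ⟨β, ⟨hβ, hβL⟩, hβC⟩
    have h4 : PFix p β (C' n) := pfix_of_chain hPp C' n hC' hβC (PFix.of_fix fun x hx => by
      have : (x : Ω) ∈ C 0 := hx.2
      rw [h0, Subgroup.mem_bot] at this
      rw [show x = 1 from Subtype.ext this, map_one])
    have h5 : PFix p β (U.subgroupOf P) := h4.bind fun m hm =>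
      h3 _ (hU _ (Subgroup.pow_mem _ hβ m)) fun x hx => by
        rw [afn_apply _ (hD hx).1, hm ⟨x, (hD hx).1⟩ ⟨hx, htop x (hD hx).1 (hD hx).2 (h2 x hx)⟩]
    obtain ⟨k, hk⟩ := pow_eq_one_of_pfix hPp h5 (hLU β hβ hβL)
    exact ⟨k, Subtype.ext hk⟩
  · refine Subgroup.le_normalizer_iff.2 fun γ hγ β hβ => ⟨⟨Subgroup.mul_mem _
      (Subgroup.mul_mem _ hγ hβ.1.1) (Subgroup.inv_mem _ hγ), hL γ hγ β hβ.1.2⟩,
      fun i hi => (hβ.2 i hi).conj (hinv' _ (Subgroup.inv_mem _ hγ) _ hi) (hinv' _ hγ _ hi.le)⟩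
  · refine ⟨D.mul_mem (D.inv_mem hx.1) ?_, ?_⟩
    · have := h1 α (hU α hα) x hx.1
      rwa [afn_coe] at this
    · have := h i hi x x.2 (hD hx.1).2 (h2 x hx.1) hx.2
      rwa [afn_coe] at this

/-- The hyperfocal case of `mem_autCore_of_small`. -/
theorem mem_autCore_of_small_hyp [Finite S] [Fact p.Prime] (hS : IsPGroup p S)
    (hF : F.IsSaturated p) (hP : P ≤ S)
    (C : ℕ → Subgroup Ω) (n : ℕ) (hC : ∀ i < n, C i ≤ C (i + 1)) (h0 : C 0 = ⊥)
    (htop : ∀ x ∈ F.hyperfocalSubgroup p, x ^ smallExp p = 1 → x ∈ C n)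
    (hinv : ∀ i ≤ n, ∀ x ∈ F.hyperfocalSubgroup p, x ^ smallExp p = 1 → x ∈ C i →
      ∀ y, F.IsConjElt x y → y ∈ C i)
    {α : MulAut P} (hα : α ∈ F.autGroup P)
    (h : ∀ i < n, ∀ x ∈ P, x ∈ F.hyperfocalSubgroup p → x ^ smallExp p = 1 → x ∈ C (i + 1) →
      x⁻¹ * afn α x ∈ C i) :
    α ∈ autCore F p P :=
  mem_autCore_of_small hS hP (fun _ hβ _ hx hx' => afn_mem_of_sc hP hβ (sc_hyp hS hF) hx hx')
    (L := ⊤) (fun _ _ _ _ => trivial) (fun _ hβ _ => exists_pow_mem_trivMod_hyp hP hβ) C n hC h0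
    (fun x _ => htop x) (fun _ hβ i hi x hx hx' hq hi' =>
      hinv i hi x hx' hq hi' _ (isConjElt_of_M (M_afn hP hβ) hx)) hα trivial h

/-- If `S` stabilizes an `F`-invariant chain on the small elements of the hyperfocal subgroup, then
`S` is normal in `F`. -/
theorem isNormal_top_of_small [Finite S] [Fact p.Prime] (hS : IsPGroup p S)
    (hF : F.IsSaturated p)
    (C : ℕ → Subgroup Ω) (n : ℕ) (hC : ∀ i < n, C i ≤ C (i + 1)) (h0 : C 0 = ⊥)
    (htop : ∀ x ∈ F.hyperfocalSubgroup p, x ^ smallExp p = 1 → x ∈ C n)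
    (hinv : ∀ i ≤ n, ∀ x ∈ F.hyperfocalSubgroup p, x ^ smallExp p = 1 → x ∈ C i →
      ∀ y, F.IsConjElt x y → y ∈ C i)
    (h : ∀ i < n, ∀ x ∈ F.hyperfocalSubgroup p, x ^ smallExp p = 1 → x ∈ C (i + 1) →
      ∀ s ∈ S, x⁻¹ * (s * x * s⁻¹) ∈ C i) : F.IsNormal S := by
  refine (isNormal_iff_sc_le_cr hS hF).2 ⟨sc_top F, fun P hc hr => ?_⟩
  refine le_of_conjAut_mem_autCore hS hc hr le_rfl (hc.1.trans Subgroup.le_normalizer)
    fun g hg hN => mem_autCore_of_small_hyp hS hF hc.1 C n hC h0 htop hinv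
      (conjAut_mem_autGroup hc.1 hg hN) fun i hi x hx hx' hq hi' => ?_
  rw [afn_conjAut hN hx]
  exact h i hi x hx' hq hi' g hg

end Detect

section BGH

theorem img_centralizerIn_of_M {f : Ω → Ω} (hf : M F P f) (hQ : Q ≤ P) :
    img (centralizerIn P Q) f = centralizerIn (img P f) (img Q f) := by
  refine le_antisymm (img_le_iff.2 fun x hx => ⟨mem_img_of_mem f hx.1,
    hf.homOn.mem_centralizer hQ hx.1 hx.2⟩) fun y hy => ?_
  obtain ⟨x, hx, rfl⟩ := hf.mem_img.1 hy.1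
  refine mem_img_of_mem f (mem_centralizerIn.2 ⟨hx, fun z hz => ?_⟩)
  refine hf.inj _ (P.mul_mem (hQ hz) hx) _ (P.mul_mem hx (hQ hz)) ?_
  rw [hf.map_mul (hQ hz) hx, hf.map_mul hx (hQ hz)]
  exact hy.2 _ (mem_img_of_mem f hz)

theorem card_centralizerIn_img {f : Ω → Ω} (hf : M F P f) (hQ : Q ≤ P) :
    Nat.card (centralizerIn (img P f) (img Q f)) = Nat.card (centralizerIn P Q) := by
  rw [← img_centralizerIn_of_M hf hQ, (hf.mono (centralizerIn_le Q)).card_img]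

theorem le_normalizer_img {f : Ω → Ω} (hf : M F P f) (hQ : Q ≤ P)
    (hn : P ≤ Subgroup.normalizer (Q : Set Ω)) :
    img P f ≤ Subgroup.normalizer (img Q f : Set Ω) :=
  img_le_iff.2 fun _ hx => hf.homOn.mem_normalizer hQ hx (hn hx)

/-- Some element of `N_S(P)` outside `P` centralizes `Q`. -/
def BigCent (S P Q : Subgroup Ω) : Prop :=
  ∃ s ∈ normalizerIn S P, s ∉ P ∧ s ∈ Subgroup.centralizer (Q : Set Ω)

theorem BigCent.card_lt [Finite S] (h : BigCent S P Q) (hP : P ≤ S) :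
    Nat.card (centralizerIn P Q) < Nat.card (centralizerIn S Q) := by
  obtain ⟨s, hs, hsP, hsQ⟩ := h
  refine card_lt_of_lt' (centralizerIn_le Q) (lt_of_le_of_ne (centralizerIn_mono hP Q) fun e => ?_)
  exact hsP (show s ∈ centralizerIn P Q from e ▸ ⟨hs.1, hsQ⟩).1

variable [Finite S] [Fact p.Prime] (hS : IsPGroup p S)
include hS

theorem bigCent_dichotomy (hE : E.IsSaturated p) (hP : E.IsFullyNormalized P) (hQ : Q ≤ P)
    (hn : P ≤ Subgroup.normalizer (Q : Set Ω)) :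
    (E.IsFullyCentralized Q ∧ centralizerIn S Q ≤ P) ∨
      ∃ h ∈ E.autGroup P, BigCent S P (img Q (afn h)) := by
  obtain ⟨a, ha, hn'⟩ := sat_exists_normalizer_map hS hE (hQ.trans hP.1)
  have hPN : P ≤ normalizerIn S Q := fun x hx => ⟨hP.1 hx, hn hx⟩
  have haP := ha.mono hPN
  have haQ := haP.mono hQ
  by_cases hc : centralizerIn S (img Q a) ≤ img P a
  · left
    have h1 : Nat.card (centralizerIn S (img Q a)) ≤ Nat.card (centralizerIn P Q) := by
      rw [← card_centralizerIn_img haP hQ]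
      exact card_le_of_le' ((centralizerIn_le _).trans haP.img_le) fun x hx => ⟨hc hx, hx.2⟩
    have h2 : Nat.card (centralizerIn P Q) ≤ Nat.card (centralizerIn S Q) :=
      card_le_of_le' (centralizerIn_le Q) (centralizerIn_mono hP.1 Q)
    have h3 := (sat_centralized hS hE hn').2
    refine ⟨⟨haQ.le, fun R hR => ((h3 R (isConj_trans (isConj_symm haQ.isConj) hR)).trans h1).trans
      h2⟩, ?_⟩
    rw [← eq_of_le_of_card_ge' (centralizerIn_le Q) (centralizerIn_mono hP.1 Q)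
      ((h3 Q (isConj_symm haQ.isConj)).trans h1)]
    exact centralizerIn_le Q
  · right
    obtain ⟨g, hg, hgN, hgP⟩ := exists_mem_normalizer_of_not_le hS haP.img_le (centralizerIn_le _)
      (fun x hx => normalizerIn_le_normalizer_centralizerIn (K := S) le_rfl
        ⟨haP.img_le hx, le_normalizer_img haP hQ hn hx⟩) hc
    obtain ⟨b, hb, hbi⟩ := sat_normalizer_map hS hE hP (isConj_symm haP.isConj)
    have hle : img P a ≤ normalizerIn S (img P a) := le_normalizerIn haP.img_le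
    obtain ⟨h, hh, e⟩ := (haP.comp hb fun x hx => hle (mem_img_of_mem a hx)).exists_aut'
      fun x hx => hbi ▸ mem_img_of_mem b (mem_img_of_mem a hx)
    have hg' : g ∈ normalizerIn S (img P a) := ⟨hg.1, hgN⟩
    refine ⟨h, hh, b g, hbi ▸ hb.mem_normalizerIn hle hg' hgN, fun hbg => hgP ?_, ?_⟩
    · rw [← hbi] at hbg
      obtain ⟨x, hx, e'⟩ := (hb.mono hle).mem_img.1 hbg
      exact hb.inj _ (hle hx) _ hg' e' ▸ hx
    · have h1 := hb.homOn.mem_centralizer ((img_mono a hQ).trans hle) hg' hg.2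
      rwa [img_comp haQ.homOn (hb.homOn.mono ((img_mono a hQ).trans hle)),
        ← img_congr fun x hx => e x (hQ hx)] at h1

/-- The local step of the theorem of Benson, Grodal and Henke. -/
theorem bgh_step (hF : F.IsSaturated p) (hE : E.IsSaturated p) (hEF : E.IsSubsystemOf F)
    (hP : F.IsFullyNormalized P) (hC : centralizerIn S P ≤ P)
    (hext : ∀ α ∈ F.autGroup P, (∃ t ∈ autInducedBy S P, t ∉ Inn P ∧
      α * t * α⁻¹ ∈ autInducedBy S P) → α ∈ E.autGroup P)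
    (hQ : Q ≤ P) (hn : P ≤ Subgroup.normalizer (Q : Set Ω)) (hM : ∀ f, M F Q f → M E Q f)
    (hp : ∀ α ∈ F.autGroup P, (∀ x ∈ Q, afn α x = x) → ∃ k : ℕ, α ^ p ^ k = 1) :
    F.autGroup P ≤ E.autGroup P := by
  have hPE : E.IsFullyNormalized P := ⟨hP.1, fun R hR => hP.2 R (isConj_mono hEF hR)⟩
  have hSyl := sat_sylow hS hF hP
  have hle := autGroup_mono hEF P
  have hQimg : ∀ α : MulAut P, img Q (afn α) ≤ P := fun α =>
    img_le_iff.2 fun x hx => afn_mem α (hQ hx)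
  have hnimg : ∀ α ∈ F.autGroup P, P ≤ Subgroup.normalizer (img Q (afn α) : Set Ω) := fun α hα => by
    have := le_normalizer_img (M_afn hP.1 hα) hQ hn
    rwa [img_afn] at this
  have hcard : ∀ α ∈ F.autGroup P,
      Nat.card (centralizerIn P (img Q (afn α))) = Nat.card (centralizerIn P Q) := fun α hα => by
    have := card_centralizerIn_img (M_afn hP.1 hα) hQ
    rwa [img_afn] at this
  have himg : ∀ α β : MulAut P, img (img Q (afn β)) (afn α) = img Q (afn (α * β)) := fun α β => by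
    rw [img_comp ((homOn_afn β).mono hQ) ((homOn_afn α).mono (hQimg β))]
    exact img_congr fun x _ => (afn_mul α β x).symm
  have hconj : ∀ α ∈ F.autGroup P, E.IsConj Q (img Q (afn α)) := fun α hα =>
    (hM _ ((M_afn hP.1 hα).mono hQ)).isConj
  -- a fully centralized conjugate excludes big centralizers
  have hexcl : ∀ α ∈ F.autGroup P, ∀ β ∈ F.autGroup P, E.IsFullyCentralized (img Q (afn α)) →
      centralizerIn S (img Q (afn α)) ≤ P → ¬ BigCent S P (img Q (afn β)) := by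
    intro α hα β hβ h1 h2 h3
    have h4 := h3.card_lt hP.1
    have h5 := h1.2 _ (isConj_trans (isConj_symm (hconj α hα)) (hconj β hβ))
    have h6 : Nat.card (centralizerIn S (img Q (afn α))) ≤
        Nat.card (centralizerIn P (img Q (afn α))) :=
      card_le_of_le' ((centralizerIn_le _).trans hP.1) fun x hx => ⟨h2 hx, hx.2⟩
    rw [hcard α hα] at h6
    rw [hcard β hβ] at h4
    omega
  -- the centralizer of `Q` in `Aut_F(P)`
  let CQ : Subgroup (MulAut P) :=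
    { carrier := {α | α ∈ F.autGroup P ∧ ∀ x ∈ Q, afn α x = x}
      one_mem' := ⟨Subgroup.one_mem _, fun x _ => afn_one x⟩
      mul_mem' := fun ha hb => ⟨Subgroup.mul_mem _ ha.1 hb.1, fun x hx => by
        rw [afn_mul, hb.2 x hx, ha.2 x hx]⟩
      inv_mem' := fun {a} ha => ⟨Subgroup.inv_mem _ ha.1, fun x hx => by
        conv_lhs => rw [← ha.2 x hx]
        rw [afn_inv_afn]⟩ }
  have hCQ : IsPGroup p CQ := fun ⟨α, hα⟩ => (hp α hα.1 hα.2).imp fun k hk => Subtype.ext hk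
  obtain ⟨χ, hχ, hχC⟩ := hSyl.exists_conj_mem hCQ fun α hα => hα.1
  intro φ hφ
  rcases bigCent_dichotomy hS hE hPE (hQimg φ) (hnimg φ hφ) with ⟨h1, h2⟩ | ⟨h₁, hh₁, hb₁⟩
  · obtain ⟨g, hg, e⟩ := receptive_ext (sat_receptive_of_centralized hS hE h1)
      (hM _ ((M_afn hP.1 hφ).mono hQ)) rfl (R := P) (fun x hx => ⟨hP.1 hx, hn hx⟩)
      fun y hy => ⟨afn φ y, hP.1 (afn_mem φ hy), fun x hx => (homOn_afn φ).map_conj hy (hQ hx)⟩
    have hgP := hg.mono (le_sup_right : P ≤ Q ⊔ P)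
    obtain ⟨ψ, hψ, eψ⟩ := hgP.exists_aut' fun y hy => by
      have h3 : (afn φ y)⁻¹ * g y ∈ centralizerIn S (img Q (afn φ)) := by
        refine mem_centralizerIn.2 ⟨S.mul_mem (S.inv_mem (hP.1 (afn_mem φ hy))) (hgP.mem hy),
          fun z hz => ?_⟩
        obtain ⟨x, hx, rfl⟩ := ((homOn_afn φ).mono hQ).mem_img.1 hz
        have h4 := hgP.map_conj hy (hQ hx)
        rw [e _ (conj_mem_of_mem_normalizer (hn hy) hx), e x hx,
          (homOn_afn φ).map_conj hy (hQ hx)] at h4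
        calc afn φ x * ((afn φ y)⁻¹ * g y)
            = (afn φ y)⁻¹ * (afn φ y * afn φ x * (afn φ y)⁻¹) * g y := by group
          _ = (afn φ y)⁻¹ * g y * afn φ x := by rw [h4]; group
      simpa using P.mul_mem (afn_mem φ hy) (h2 h3)
    have hc : ψ⁻¹ * φ ∈ CQ := ⟨Subgroup.mul_mem _ (Subgroup.inv_mem _ (hle hψ)) hφ, fun x hx => by
      rw [afn_mul, ← e x hx, ← eψ x (hQ hx), afn_inv_afn]⟩
    obtain ⟨s, hs, es⟩ := mem_autInducedBy_iff'.1 (hχC _ hc)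
    have hsP : s ∈ P := by
      by_contra hsP
      refine hexcl φ hφ χ hχ h1 h2 ⟨s, hs, hsP, fun z hz => ?_⟩
      obtain ⟨x, hx, rfl⟩ := ((homOn_afn χ).mono hQ).mem_img.1 hz
      have h3 := afn_conjAut hs.2 (afn_mem χ (hQ hx))
      rw [← es, afn_mul, afn_mul, afn_inv_afn, hc.2 x hx, eq_mul_inv_iff_mul_eq] at h3
      exact h3
    have h3 : χ * (ψ⁻¹ * φ) * χ⁻¹ ∈ Inn P := es ▸ mem_Inn_iff.2 ⟨s, hsP, fun _ => rfl⟩
    have h4 : ψ⁻¹ * φ ∈ Inn P := by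
      have := (congr_mem_Inn_iff χ (α := ψ⁻¹ * φ)).1 h3
      exact this
    simpa using Subgroup.mul_mem _ hψ (Inn_le_autGroup hP.1 h4)
  · rw [himg] at hb₁
    have hφ₁ := Subgroup.mul_mem _ (hle hh₁) hφ
    rcases bigCent_dichotomy hS hE hPE hQ hn with ⟨h1, h2⟩ | ⟨h₀, hh₀, hb₀⟩
    · have e : img Q (afn (1 : MulAut P)) = Q := img_eq_self_of_fix fun x _ => afn_one x
      exact absurd hb₁ (hexcl 1 (Subgroup.one_mem _) _ hφ₁ (e.symm ▸ h1) (e.symm ▸ h2))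
    -- a big centralizer puts the conjugating element in `Aut_E(P)`
    have key : ∀ α ∈ F.autGroup P, BigCent S P (img Q (afn α)) → χ * α⁻¹ ∈ E.autGroup P := by
      rintro α hα ⟨s, hs, hsP, hsQ⟩
      refine hext _ (Subgroup.mul_mem _ hχ (Subgroup.inv_mem _ hα)) ⟨conjAut P s hs.2,
        conjAut_mem_autInducedBy hs.1 hs.2,
        fun h => hsP (mem_of_conjAut_mem_Inn hP.1 hC hs.1 hs.2 h), ?_⟩
      have : α⁻¹ * conjAut P s hs.2 * α ∈ CQ := ⟨Subgroup.mul_mem _ (Subgroup.mul_mem _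
        (Subgroup.inv_mem _ hα) (conjAut_mem_autGroup hP.1 hs.1 hs.2)) hα, fun x hx => by
          rw [afn_mul, afn_mul, afn_conjAut hs.2 (afn_mem α (hQ hx)),
            ← hsQ _ (mem_img_of_mem _ hx), mul_inv_cancel_right, afn_inv_afn]⟩
      have := hχC _ this
      simpa [mul_assoc] using this
    have h1 := key _ hφ₁ hb₁
    have h2 := key _ (hle hh₀) hb₀
    have h3 := Subgroup.mul_mem _ (Subgroup.inv_mem _ hh₁) (Subgroup.mul_mem _
      (Subgroup.inv_mem _ h1) (Subgroup.mul_mem _ h2 hh₀))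
    simpa [mul_assoc] using h3

/-- **Benson–Grodal–Henke**, abstract form. -/
theorem bgh_le (hF : F.IsSaturated p) (hE : E.IsSaturated p) (hEF : E.IsSubsystemOf F)
    (h : ∀ P ≤ S, ∃ Q ≤ P, P ≤ Subgroup.normalizer (Q : Set Ω) ∧ (∀ f, M F Q f → M E Q f) ∧
      ∀ α ∈ F.autGroup P, (∀ x ∈ Q, afn α x = x) → ∃ k : ℕ, α ^ p ^ k = 1) :
    F.IsSubsystemOf E := by
  refine isSubsystemOf_iff.2 fun P f hf => M_of_sc_induction hS hF (sc_top F) ?_ ?_ P f hf.le hf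
  · obtain ⟨Q, hQ, hn, hM, hp⟩ := h S le_rfl
    refine bgh_step hS hF hE hEF isFullyNormalized_top (centralizerIn_le S) ?_ hQ hn hM hp
    rintro α - ⟨t, ht, ht', -⟩
    obtain ⟨g, hg, e⟩ := mem_autInducedBy_iff.1 ht
    exact absurd (mem_Inn_iff.2 ⟨g, hg, e⟩) ht'
  · intro R hRS hR ih
    have hext : extAut F R ≤ E.autGroup R := extAut_le_of_larger fun Q hQ hlt =>
      Hom_subset_iff.2 fun f => ih Q f hQ hlt
    by_cases hC : centralizerIn S R ≤ R
    · obtain ⟨Q, hQ, hn, hM, hp⟩ := h R hRS.le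
      refine bgh_step hS hF hE hEF hR hC (fun α hα ht => hext (Subgroup.subset_closure ?_))
        hQ hn hM hp
      exact (extends_iff hS (sat_receptive hS hF hR) hC hα).2 ht
    · rwa [extAut_eq_of_not_centralizerIn_le (sat_receptive hS hF hR) hC] at hext

/-- **Benson–Grodal–Henke**: abelian subgroups of exponent `p` (or `4`) of the hyperfocal subgroup
control fusion. -/
theorem bgh_hyp (hF : F.IsSaturated p) (hE : E.IsSaturated p) (hEF : E.IsSubsystemOf F)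
    (h : ∀ A ≤ F.hyperfocalSubgroup p, IsMulCommutative A → (∀ x ∈ A, x ^ smallExp p = 1) →
      ∀ f, M F A f → M E A f) : F.IsSubsystemOf E := by
  refine bgh_le hS hF hE hEF fun P hP => ?_
  have := finite_of_le hP
  have hPp := isPGroup_of_le hS hP
  obtain ⟨A, hA, hn, hc, hq, hd⟩ := exists_detect_abelian_in hPp (U := F.hyperfocalSubgroup p)
    fun g hg x hx => conj_mem_hyp (hP hg) hx
  refine ⟨A, hA.trans inf_le_left, hn, h A (hA.trans inf_le_right) hc hq, fun α hα hfix => ?_⟩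
  exact pow_eq_one_of_pfix hPp
    (hd α (fun x hx hx' => afn_mem_of_sc hP hα (sc_hyp hS hF) hx hx') hfix)
    (exists_pow_mem_trivMod_hyp hP hα)

theorem bgh_homSet (hF : F.IsSaturated p) (hE : E.IsSaturated p) (hEF : E.IsSubsystemOf F)
    (hodd : p ≠ 2 → ∀ A B : Subgroup Ω, A ≤ F.hyperfocalSubgroup p → B ≤ F.hyperfocalSubgroup p →
      IsElementaryAbelian p A → IsElementaryAbelian p B → E.homSet A B = F.homSet A B)
    (htwo : p = 2 → ∀ A B : Subgroup Ω, A ≤ F.hyperfocalSubgroup p → B ≤ F.hyperfocalSubgroup p →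
      IsMulCommutative A → IsMulCommutative B → (∀ a ∈ A, a ^ 4 = 1) → (∀ b ∈ B, b ^ 4 = 1) →
      E.homSet A B = F.homSet A B) (P : Subgroup Ω) : E.Hom P = F.Hom P := by
  refine Set.Subset.antisymm (hEF P) (bgh_hyp hS hF hE hEF (fun A hA hc hq f hf => ?_) P)
  have hB : img A f ≤ F.hyperfocalSubgroup p :=
    img_le_iff.2 fun x hx => hf.mem_of_sc (sc_hyp hS hF) hx (hA hx)
  have hc' : IsMulCommutative (img A f) := by
    refine ⟨⟨fun ⟨a, ha⟩ ⟨b, hb⟩ => Subtype.ext ?_⟩⟩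
    obtain ⟨x, hx, rfl⟩ := hf.mem_img.1 ha
    obtain ⟨y, hy, rfl⟩ := hf.mem_img.1 hb
    show f x * f y = f y * f x
    rw [← hf.map_mul hx hy, ← hf.map_mul hy hx]
    exact congrArg (fun z : A => f z) (hc.is_comm.comm ⟨x, hx⟩ ⟨y, hy⟩)
  have hq' : ∀ y ∈ img A f, y ^ smallExp p = 1 := fun y hy => by
    obtain ⟨x, hx, rfl⟩ := hf.mem_img.1 hy
    rw [← hf.homOn.map_pow hx, hq x hx, hf.map_one]
  have key : E.homSet A (img A f) = F.homSet A (img A f) := by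
    by_cases h2 : p = 2
    · subst h2
      exact htwo rfl A _ hA hB hc hc' hq hq'
    · rw [smallExp_of_ne h2] at hq hq'
      exact hodd h2 A _ hA hB ⟨hc, hq⟩ ⟨hc', hq'⟩
  have h1 : hf.homOn.toHom ∈ E.homSet A (img A f) :=
    key ▸ ⟨hf.toHom_mem, fun x => mem_img_of_mem f x.2⟩
  exact (M_fn h1.1).congr fun x hx => hf.homOn.fn_toHom hx

omit [Finite S] hS in
theorem card_zpowers_of_smallExp {x : Ω} (hx : x ^ smallExp p = 1) (h1 : x ≠ 1) :
    Nat.card (Subgroup.zpowers x) = p ∨ Nat.card (Subgroup.zpowers x) = 4 := by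
  rw [Nat.card_zpowers]
  by_cases h2 : p = 2
  · subst h2
    by_cases h : x ^ 2 = 1
    · exact Or.inl (orderOf_eq_prime h h1)
    · exact Or.inr (orderOf_eq_prime_pow (p := 2) (n := 1) (by simpa using h) hx)
  · rw [smallExp_of_ne h2] at hx
    exact Or.inl (orderOf_eq_prime hx h1)

/-- Transfer of a hypothesis on maps between cyclic subgroups of order `p` or `4` of the hyperfocal
subgroup to conjugate elements. -/
theorem exists_hom_of_isConjElt (hF : F.IsSaturated p) {X : ∀ A : Subgroup Ω, Set (A →* Ω)}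
    (h : ∀ A B : Subgroup Ω, A ≤ F.hyperfocalSubgroup p → B ≤ F.hyperfocalSubgroup p →
      IsCyclic A → (Nat.card A = p ∨ Nat.card A = 4) → IsCyclic B →
      (Nat.card B = p ∨ Nat.card B = 4) → F.homSet A B ⊆ X A)
    {x y : Ω} (hx : x ∈ F.hyperfocalSubgroup p) (hq : x ^ smallExp p = 1) (h1 : x ≠ 1)
    (hxy : F.IsConjElt x y) :
    ∃ φ ∈ X (Subgroup.zpowers x), φ ⟨x, Subgroup.mem_zpowers x⟩ = y := by
  have hy : y ∈ F.hyperfocalSubgroup p :=
    (stronglyClosed_iff_isConjElt.1 (sc_hyp hS hF)).2 x hx y hxy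
  have hc := card_zpowers_of_smallExp hq h1
  have hc' : Nat.card (Subgroup.zpowers y) = Nat.card (Subgroup.zpowers x) := by
    rw [Nat.card_zpowers, Nat.card_zpowers, orderOf_eq_of_isConjElt hxy]
  obtain ⟨φ, hφ, e⟩ := hxy
  refine ⟨φ, h _ (Subgroup.zpowers y) (Subgroup.zpowers_le.2 hx) (Subgroup.zpowers_le.2 hy)
    inferInstance hc inferInstance (hc' ▸ hc) ⟨hφ, ?_⟩, e⟩
  rintro ⟨_, k, rfl⟩
  refine ⟨k, ?_⟩
  show y ^ k = φ (⟨x, Subgroup.mem_zpowers x⟩ ^ k)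
  rw [map_zpow, e]

omit [Finite S] [Fact p.Prime] hS in
theorem inv_mul_conj_mem_ucs {i : ℕ} {x s : Ω} (hx : x ∈ ucs S (i + 1)) (hs : s ∈ S) :
    x⁻¹ * (s * x * s⁻¹) ∈ ucs S i := by
  have := ucs_commutator i (Subgroup.commutator_mem_commutator (Subgroup.inv_mem _ hx) hs)
  simpa [commutatorElement_def, mul_assoc] using this

end BGH

end Cfsg.Agent.Fus
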