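import Cfsg.Agent.Lib.FT.P.BG1c
import Cfsg.Agent.Lib.Fus.Chain

/-!
Subgroups of exponent `p` (or `4`) of a finite `p`-group on which every nontrivial automorphism of
order prime to `p` acts nontrivially (from Thompson's critical subgroup).
-/

set_option autoImplicit false

namespace Cfsg.Agent.Fus

variable {X : Type*} [Group X] {p : ℕ} {φ : MulAut X} {A B U : Subgroup X}

/-- The exponent `p` for odd `p`, and `4` for `p = 2`. -/
def smallExp (p : ℕ) : ℕ := if p = 2 then 4 else p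

theorem dvd_smallExp : p ∣ smallExp p := by
  unfold smallExp
  split_ifs with h
  · subst h; decide
  · exact dvd_rfl

theorem dvd_choose_smallExp [hp : Fact p.Prime] : p ∣ (smallExp p).choose 2 := by
  unfold smallExp
  split_ifs with h
  · subst h; decide
  · exact hp.out.dvd_choose_self two_ne_zero (lt_of_le_of_ne hp.out.two_le (Ne.symm h))

theorem smallExp_of_ne (h : p ≠ 2) : smallExp p = p := if_neg h

theorem smallExp_two : smallExp 2 = 4 := rfl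

/-- Some `p`-power of `φ` fixes `A` elementwise. -/
def PFix (p : ℕ) (φ : MulAut X) (A : Subgroup X) : Prop := ∃ k : ℕ, ∀ x ∈ A, (φ ^ p ^ k) x = x

theorem aut_pow_fix {x : X} (h : φ x = x) (n : ℕ) : (φ ^ n) x = x := by
  induction n with
  | zero => rfl
  | succ n ih => rw [pow_succ, MulAut.mul_apply, h, ih]

theorem aut_pow_mapsTo (h : ∀ x ∈ A, φ x ∈ A) (n : ℕ) : ∀ x ∈ A, (φ ^ n) x ∈ A := by
  induction n with
  | zero => exact fun x hx => hx
  | succ n ih => exact fun x hx => by rw [pow_succ, MulAut.mul_apply]; exact ih _ (h x hx)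

theorem PFix.of_fix (h : ∀ x ∈ A, φ x = x) : PFix p φ A :=
  ⟨0, fun x hx => aut_pow_fix (h x hx) _⟩

theorem PFix.mono (h : PFix p φ A) (hBA : B ≤ A) : PFix p φ B :=
  h.imp fun _ hk x hx => hk x (hBA hx)

theorem PFix.bind (h : PFix p φ B)
    (H : ∀ n : ℕ, (∀ x ∈ B, (φ ^ n) x = x) → PFix p (φ ^ n) A) : PFix p φ A := by
  obtain ⟨k, hk⟩ := h
  obtain ⟨m, hm⟩ := H _ hk
  exact ⟨k + m, fun x hx => by rw [pow_add, pow_mul]; exact hm x hx⟩

theorem PFix.step [Finite X] (hX : IsPGroup p X) (hBA : B ≤ A) (h : PFix p φ B)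
    (ht : TrivOn φ A B) : PFix p φ A :=
  ht.exists_pow_fix hX hBA h

theorem PFix.pow_eq_one (h : PFix p φ ⊤) : ∃ k : ℕ, φ ^ p ^ k = 1 :=
  h.imp fun _ hk => MulEquiv.ext fun x => hk x trivial

theorem pfix_of_chain [Finite X] (hX : IsPGroup p X) (C : ℕ → Subgroup X) (n : ℕ)
    (hC : ∀ i < n, C i ≤ C (i + 1)) (hφ : ∀ i < n, TrivOn φ (C (i + 1)) (C i))
    (h : PFix p φ (C 0)) : PFix p φ (C n) := by
  induction n with
  | zero => exact h
  | succ n ih =>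
    exact (ih (fun i hi => hC i (by omega)) fun i hi => hφ i (by omega)).step hX
      (hC n (by omega)) (hφ n (by omega))

/-- An automorphism fixing a normal self-centralizing subgroup `A` of `B` is trivial on `B/A`. -/
theorem trivOn_of_fix (hn : ∀ x ∈ B, ∀ a ∈ A, x * a * x⁻¹ ∈ A) (hB : ∀ x ∈ B, φ x ∈ B)
    (hC : ∀ x ∈ B, (∀ a ∈ A, a * x = x * a) → x ∈ A) (h : ∀ a ∈ A, φ a = a) : TrivOn φ B A := by
  intro x hx
  refine hC _ (B.mul_mem (B.inv_mem hx) (hB x hx)) fun a ha => ?_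
  have h1 := h _ (hn x hx a ha)
  rw [map_mul, map_mul, map_inv, h a ha] at h1
  calc a * (x⁻¹ * φ x) = x⁻¹ * (x * a * x⁻¹) * φ x := by group
    _ = x⁻¹ * φ x * a := by rw [← h1]; group

section Root

variable {M Z : Subgroup X} (hc : ∀ x ∈ M, ∀ y ∈ M, y⁻¹ * x⁻¹ * y * x ∈ Z)
  (hZ : ∀ c ∈ Z, ∀ x ∈ M, Commute c x)
include hc hZ

theorem mul_pow_eq_of_comm {x y : X} (hx : x ∈ M) (hy : y ∈ M) (n : ℕ) :
    (x * y) ^ n = x ^ n * y ^ n * (y⁻¹ * x⁻¹ * y * x) ^ n.choose 2 :=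
  FT.BG1P.mul_pow_of_central (by group) (hZ _ (hc x hx y hy) x hx) (hZ _ (hc x hx y hy) y hy) n

/-- The elements of `M` whose `n`-th power lies in `Z`. -/
def rootSub (n : ℕ) : Subgroup X where
  carrier := {x | x ∈ M ∧ x ^ n ∈ Z}
  one_mem' := ⟨M.one_mem, by rw [one_pow]; exact Z.one_mem⟩
  mul_mem' := by
    rintro x y ⟨hx, hx'⟩ ⟨hy, hy'⟩
    refine ⟨M.mul_mem hx hy, ?_⟩
    rw [mul_pow_eq_of_comm hc hZ hx hy]
    exact Z.mul_mem (Z.mul_mem hx' hy') (Z.pow_mem (hc x hx y hy) _)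
  inv_mem' := by
    rintro x ⟨hx, hx'⟩
    exact ⟨M.inv_mem hx, by rw [inv_pow]; exact Z.inv_mem hx'⟩

theorem pfix_of_root [Finite X] (hX : IsPGroup p X) (hM : ∀ x ∈ M, φ x ∈ M)
    (h : ∀ x ∈ M, x ^ p ∈ Z → φ x = x) : PFix p φ M := by
  obtain ⟨N, hN⟩ := isPGroup_iff_card_dvd_pow.1 hX
  refine (pfix_of_chain hX (fun i => rootSub hc hZ (p ^ (i + 1))) N ?_ ?_
    (PFix.of_fix fun x hx => h x hx.1 (by simpa using hx.2))).mono fun x hx => ⟨hx, ?_⟩
  · rintro i - x ⟨hx, hx'⟩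
    exact ⟨hx, by rw [pow_succ, pow_mul]; exact Z.pow_mem hx' _⟩
  · rintro i - x ⟨hx, hx'⟩
    refine ⟨M.mul_mem (M.inv_mem hx) (hM x hx), ?_⟩
    rw [pow_succ, pow_mul] at hx'
    rw [mul_pow_eq_of_comm hc hZ (M.inv_mem hx) (hM x hx), ← map_pow, h _ (M.pow_mem hx _) hx',
      inv_pow, inv_mul_cancel, one_mul]
    exact Z.pow_mem (hc _ (M.inv_mem hx) _ (hM x hx)) _
  · rw [pow_succ, pow_mul, orderOf_dvd_iff_pow_eq_one.1 ((orderOf_dvd_natCard _).trans hN),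
      one_pow]
    exact Z.one_mem

theorem mul_pow_smallExp [Fact p.Prime] {x y : X} (hx : x ∈ M) (hy : y ∈ M) (hy' : y ^ p ∈ Z) :
    (x * y) ^ smallExp p = x ^ smallExp p * y ^ smallExp p := by
  have h1 : (y⁻¹ * x⁻¹ * y * x) ^ p = 1 := by
    have := FT.BG1P.pow_mul_of_central (x := x) (y := y) (c := y⁻¹ * x⁻¹ * y * x) (by group)
      (hZ _ (hc x hx y hy) y hy) p
    rw [(hZ _ hy' x hx).eq] at this
    simpa using this
  obtain ⟨k, hk⟩ := dvd_choose_smallExp (p := p)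
  rw [mul_pow_eq_of_comm hc hZ hx hy, hk, pow_mul, h1, one_pow, mul_one]

/-- The elements of `M` with `p`-th power in `Z` and of order dividing `p` (or `4`). -/
def smallSub (p : ℕ) [Fact p.Prime] : Subgroup X where
  carrier := {x | x ∈ rootSub hc hZ p ∧ x ^ smallExp p = 1}
  one_mem' := ⟨Subgroup.one_mem _, one_pow _⟩
  mul_mem' := by
    rintro x y ⟨hx, hx'⟩ ⟨hy, hy'⟩
    exact ⟨Subgroup.mul_mem _ hx hy, by
      rw [mul_pow_smallExp hc hZ hx.1 hy.1 hy.2, hx', hy', one_mul]⟩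
  inv_mem' := by
    rintro x ⟨hx, hx'⟩
    exact ⟨Subgroup.inv_mem _ hx, by rw [inv_pow, hx', inv_one]⟩

end Root

/-- A characteristic subgroup of exponent `p` (or `4`) detecting automorphisms of order prime to
`p`. -/
theorem exists_detect [Finite X] [Fact p.Prime] (hX : IsPGroup p X) :
    ∃ D : Subgroup X, (∀ φ : MulAut X, ∀ x ∈ D, φ x ∈ D) ∧ (∀ x ∈ D, x ^ smallExp p = 1) ∧
      ∀ φ : MulAut X, (∀ x ∈ D, φ x = x) → ∃ k : ℕ, φ ^ p ^ k = 1 := by
  have := hX.isNilpotent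
  obtain ⟨K, hK, hKc, hKK⟩ := FT.BG1P.exists_critical X
  have hKφ : ∀ φ : MulAut X, ∀ x ∈ K, φ x ∈ K := fun φ x hx =>
    Subgroup.characteristic_iff_map_le.1 hK φ ⟨x, hx, rfl⟩
  set Z : Subgroup X := K ⊓ Subgroup.centralizer (K : Set X) with hZdef
  have hZφ : ∀ φ : MulAut X, ∀ x ∈ Z, φ x ∈ Z := fun φ x hx =>
    Subgroup.characteristic_iff_map_le.1 inferInstance φ ⟨x, hx, rfl⟩
  have hc : ∀ x ∈ K, ∀ y ∈ K, y⁻¹ * x⁻¹ * y * x ∈ Z := fun x _ y hy => by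
    have := hKc (Subgroup.commutator_mem_commutator (K.inv_mem hy) (Subgroup.mem_top x⁻¹))
    simpa [commutatorElement_def] using this
  have hZ : ∀ c ∈ Z, ∀ x ∈ K, Commute c x := fun c hc x hx => (hc.2 x hx).symm
  have hc' : ∀ x ∈ Z, ∀ y ∈ Z, y⁻¹ * x⁻¹ * y * x ∈ (⊥ : Subgroup X) := fun x hx y hy => by
    rw [Subgroup.mem_bot, mul_assoc, ← (hZ x hx y hy.1).eq]
    group
  have hZ' : ∀ c ∈ (⊥ : Subgroup X), ∀ x ∈ Z, Commute c x := fun c hc x _ => by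
    rw [Subgroup.mem_bot.1 hc]; exact Commute.one_left x
  refine ⟨smallSub hc hZ p, ?_, fun x hx => hx.2, fun φ h => PFix.pow_eq_one ?_⟩
  · rintro φ x ⟨⟨hx, hx'⟩, hx''⟩
    exact ⟨⟨hKφ φ x hx, by rw [← map_pow]; exact hZφ φ _ hx'⟩, by rw [← map_pow, hx'', map_one]⟩
  have h1 : PFix p φ Z := by
    refine pfix_of_root hc' hZ' hX (hZφ φ) fun x hx hx' => h x ⟨⟨hx.1, Z.pow_mem hx _⟩, ?_⟩
    obtain ⟨k, hk⟩ := dvd_smallExp (p := p)
    rw [hk, pow_mul, Subgroup.mem_bot.1 hx', one_pow]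
  have h2 : PFix p φ (rootSub hc hZ p) := by
    refine h1.bind fun n hn => ?_
    refine PFix.step hX (B := smallSub hc hZ p) (fun x hx => hx.1)
      (PFix.of_fix fun x hx => aut_pow_fix (h x hx) n) fun x hx => ?_
    have hx' : (φ ^ n) x ∈ rootSub hc hZ p :=
      ⟨hKφ _ x hx.1, by rw [← map_pow]; exact hZφ _ _ hx.2⟩
    refine ⟨Subgroup.mul_mem _ (Subgroup.inv_mem _ hx) hx', ?_⟩
    obtain ⟨k, hk⟩ := dvd_smallExp (p := p)
    rw [mul_pow_smallExp hc hZ (K.inv_mem hx.1) hx'.1 hx'.2, ← map_pow, hn, inv_pow,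
      inv_mul_cancel]
    rw [hk, pow_mul]
    exact Z.pow_mem hx.2 _
  have h3 : PFix p φ K :=
    h2.bind fun n hn => pfix_of_root hc hZ hX (hKφ _) fun x hx hx' => hn x ⟨hx, hx'⟩
  refine h3.bind fun n hn => PFix.step hX le_top (PFix.of_fix hn) ?_
  exact trivOn_of_fix (fun x _ a ha => (inferInstance : K.Normal).conj_mem a ha x)
    (fun _ _ => trivial) (fun x _ hx => hKK hx) hn

/-- Restriction of an automorphism to an invariant finite subgroup. -/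
theorem exists_restrict [Finite U] (h : ∀ x ∈ U, φ x ∈ U) :
    ∃ ψ : MulAut U, ∀ x : U, (ψ x : X) = φ x := by
  let f : U →* U := (φ.toMonoidHom.comp U.subtype).codRestrict U fun x => h x x.2
  have hf : Function.Injective f := fun a b hab =>
    Subtype.ext (φ.injective (congrArg Subtype.val hab))
  exact ⟨MulEquiv.ofBijective f (Finite.injective_iff_bijective.1 hf), fun _ => rfl⟩

theorem restrict_pow {ψ : MulAut U} (h : ∀ x : U, (ψ x : X) = φ x) (n : ℕ) (x : U) :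
    ((ψ ^ n) x : X) = (φ ^ n) x := by
  induction n generalizing x with
  | zero => rfl
  | succ n ih => rw [pow_succ, pow_succ, MulAut.mul_apply, MulAut.mul_apply, ih, h]

/-- Relative version of `exists_detect`. -/
theorem exists_detect_sub [Finite X] [Fact p.Prime] (hX : IsPGroup p X) (U : Subgroup X) :
    ∃ D ≤ U, (∀ φ : MulAut X, (∀ x ∈ U, φ x ∈ U) → ∀ x ∈ D, φ x ∈ D) ∧
      (∀ x ∈ D, x ^ smallExp p = 1) ∧
      ∀ φ : MulAut X, (∀ x ∈ U, φ x ∈ U) → (∀ x ∈ D, φ x = x) → PFix p φ U := by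
  obtain ⟨D, h1, h2, h3⟩ := exists_detect (hX.to_subgroup U)
  refine ⟨D.map U.subtype, Subgroup.map_subtype_le D, ?_, ?_, ?_⟩
  · rintro φ hφ _ ⟨x, hx, rfl⟩
    obtain ⟨ψ, hψ⟩ := exists_restrict hφ
    exact ⟨ψ x, h1 ψ x hx, hψ x⟩
  · rintro _ ⟨x, hx, rfl⟩
    rw [← map_pow, h2 x hx, map_one]
  · intro φ hφ h
    obtain ⟨ψ, hψ⟩ := exists_restrict hφ
    obtain ⟨k, hk⟩ := h3 ψ fun x hx => Subtype.ext ((hψ x).trans (h _ ⟨x, hx, rfl⟩))
    refine ⟨k, fun x hx => ?_⟩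
    have := restrict_pow hψ (p ^ k) ⟨x, hx⟩
    rw [hk] at this
    exact this.symm

/-- An abelian normal subgroup of exponent `p` (or `4`) inside `U` detecting automorphisms of order
prime to `p` on `U`. -/
theorem exists_detect_abelian [Finite X] [Fact p.Prime] (hX : IsPGroup p X) (U : Subgroup X)
    [hU : U.Normal] : ∃ A ≤ U, A.Normal ∧ IsMulCommutative A ∧ (∀ x ∈ A, x ^ smallExp p = 1) ∧
      ∀ φ : MulAut X, (∀ x ∈ U, φ x ∈ U) → (∀ x ∈ A, φ x = x) → PFix p φ U := by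
  have := hX.isNilpotent
  obtain ⟨D, hDU, h1, h2, h3⟩ := exists_detect_sub hX U
  have hD : D.Normal := ⟨fun x hx g => h1 (MulAut.conj g) (fun y hy => hU.conj_mem y hy g) x hx⟩
  obtain ⟨A, ⟨hAD, hA, hAc⟩, hmax⟩ := (Set.toFinite {A : Subgroup X | A ≤ D ∧ A.Normal ∧
    IsMulCommutative A}).exists_maximal ⟨⊥, bot_le, inferInstance, inferInstance⟩
  have hC : D ⊓ Subgroup.centralizer (A : Set X) ≤ A := by
    by_contra h
    obtain ⟨x, hx, hxA, hc⟩ := Fit.exists_central_mod h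
    have := hmax (show A ⊔ Subgroup.zpowers x ∈ {A : Subgroup X | A ≤ D ∧ A.Normal ∧
      IsMulCommutative A} from ⟨sup_le hAD (Subgroup.zpowers_le.2 hx.1),
        Fit.normal_sup_zpowers_of_central_mod hc,
        Fit.isMulCommutative_sup_of_le_centralizer (Subgroup.zpowers_le.2 hx.2)⟩) le_sup_left
    exact hxA (this (Subgroup.mem_sup_right (Subgroup.mem_zpowers x)))
  refine ⟨A, hAD.trans hDU, hA, hAc, fun x hx => h2 x (hAD hx), fun φ hφ h => ?_⟩
  have h4 : PFix p φ D := PFix.step hX hAD (PFix.of_fix h)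
    (trivOn_of_fix (fun x _ a ha => hA.conj_mem a ha x) (h1 φ hφ) (fun x hx hx' => hC ⟨hx, hx'⟩) h)
  exact h4.bind fun n hn => h3 _ (aut_pow_mapsTo hφ n) hn

end Cfsg.Agent.Fus
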