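import Cfsg.Agent.Lib.Fus.QuatCrit

/-!
The simplicity criterion for a subgroup `G` of an ambient group.
-/

set_option autoImplicit false

namespace Cfsg.Agent.Fus

variable {Γ : Type*} [Group Γ] {p : ℕ} {G U R P : Subgroup Γ}

/-- The elements of `G` acting on `R` through every normal subsystem over `U`. -/
def goodIn (p : ℕ) (G : Subgroup Γ) {U R : Subgroup Γ} (h : R ≤ U) : Subgroup Γ :=
  (goodSubgroup p (U.subgroupOf G) ⊥ (R := R.subgroupOf G) fun _ hx => h hx).map G.subtype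

theorem mem_normalizer_subgroupOf {g : G} (hg : (g : Γ) ∈ Subgroup.normalizer (R : Set Γ)) :
    g ∈ Subgroup.normalizer (R.subgroupOf G : Set G) := fun x => hg x

theorem goodIn_le {h : R ≤ U} : goodIn p G h ≤ G := Subgroup.map_subtype_le _

theorem mem_goodIn_pel {h : R ≤ U} {g : Γ} (hG : g ∈ G) (hg : g ∈ Subgroup.normalizer (R : Set Γ))
    {k : ℕ} (hk : g ^ p ^ k = 1) : g ∈ goodIn p G h :=
  ⟨⟨g, hG⟩, Good.pel (fun _ hx => h hx) (mem_normalizer_subgroupOf hg) (Subtype.ext hk), rfl⟩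

theorem mem_goodIn_comm {h : R ≤ U} {g : Γ} (hG : g ∈ G) (hg : ∀ r ∈ R, g * r = r * g) :
    g ∈ goodIn p G h :=
  ⟨⟨g, hG⟩, Good.of_comm (R := R.subgroupOf G) (fun _ hx => h hx)
    fun r hr => Subtype.ext (hg r hr), rfl⟩

theorem mem_goodIn_up {h : R ≤ U} {h' : P ≤ U} (hRP : R ≤ P)
    (hc : ∀ c ∈ G, (∃ k : ℕ, c ^ p ^ k = 1) → (∀ r ∈ R, r ∈ G → c * r = r * c) → c ∈ R) {g : Γ}
    (hg : g ∈ Subgroup.normalizer (P : Set Γ)) (h1 : g ∈ goodIn p G h) : g ∈ goodIn p G h' := by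
  obtain ⟨g, h1, rfl⟩ := h1
  refine ⟨g, Good.up (fun _ hx => hRP hx) (fun _ hx => h' hx) (fun c ⟨k, hk⟩ h2 =>
    Subgroup.mem_sup_left (hc c c.2 ⟨k, congrArg Subtype.val hk⟩ fun r hr hG => ?_))
    (mem_normalizer_subgroupOf hg) h1, rfl⟩
  have := congrArg Subtype.val (Subgroup.mem_bot.1 (h2 ⟨r, hG⟩ hr))
  simpa [mul_inv_eq_one, mul_inv_eq_iff_eq_mul] using this

theorem mem_goodIn_down {h : R ≤ U} {h' : P ≤ U} (hRP : R ≤ P) {g : Γ}
    (hg : g ∈ Subgroup.normalizer (R : Set Γ)) (h1 : g ∈ goodIn p G h') : g ∈ goodIn p G h := by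
  obtain ⟨g, h1, rfl⟩ := h1
  exact ⟨g, Good.down (fun _ hx => hRP hx) (mem_normalizer_subgroupOf hg) h1, rfl⟩

theorem crit_of_in [Finite Γ] [Fact p.Prime] (hU : IsSylowIn p U G) (hne : U ≠ ⊥)
    (hsc : ∀ T ≤ U, T ≠ ⊥ → (∀ t ∈ T, ∀ g ∈ G, g * t * g⁻¹ ∈ U → g * t * g⁻¹ ∈ T) → U ≤ T)
    (hgen : ∀ g ∈ G, g ∈ Subgroup.normalizer (U : Set Γ) → g ∈ goodIn p G (le_refl U)) :
    Crit p (U.subgroupOf G) ⊥ where
  sylow := isSylowIn_top_of_normalizer hU.isPGroup.comap_subtype fun g hg ⟨k, hk⟩ =>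
    hU.le_of_le_normalizer (Subgroup.zpowers_le.2 g.2)
      (isPGroup_zpowers_of_pow (congrArg Subtype.val hk)) (Subgroup.zpowers_le.2
        (mem_normalizer_of_conj_mem fun x hx => (hg ⟨x, hU.le hx⟩).1 hx)) (Subgroup.mem_zpowers _)
  ne h := hne (eq_bot_iff.2 fun x hx => congrArg Subtype.val (Subgroup.mem_bot.1
    (h (show (⟨x, hU.le hx⟩ : G) ∈ U.subgroupOf G from hx))))
  sc T hT _ hne h := by
    have := hsc (T.map G.subtype) (by rintro _ ⟨t, ht, rfl⟩; exact hT ht)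
      (fun e => hne ((Subgroup.map_eq_bot_iff_of_injective _ G.subtype_injective).1 e).le) (by
        rintro _ ⟨t, ht, rfl⟩ g hg hm
        exact ⟨_, h t ht ⟨g, hg⟩ hm, rfl⟩)
    intro u hu
    obtain ⟨t, ht, e⟩ := this hu
    rwa [← Subtype.ext e]
  gen g hg _ := by
    obtain ⟨g', h1, e⟩ := hgen g g.2
      (mem_normalizer_of_conj_mem fun x hx => (hg ⟨x, hU.le hx⟩).1 hx)
    rwa [← Subtype.ext e]

end Cfsg.Agent.Fus
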