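import Cfsg.Agent.Lib.Rank2.Final

/-!
Saturated fusion systems on generalized quaternion groups.
-/

set_option autoImplicit false

namespace Cfsg.Agent.QtF

open Subgroup TwoGrp Tr FusionSystem Fus2

/-- Coordinates on a generalized quaternion subgroup `S` of order `2 ^ (n + 1)`. -/
structure Qt {G : Type*} [Group G] (S : Subgroup G) (n : ℕ) where
  hn : 2 ≤ n
  r : ZMod (2 ^ n) → G
  s : ZMod (2 ^ n) → G
  r_mul_r : ∀ i j, r i * r j = r (i + j)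
  r_mul_s : ∀ i j, r i * s j = s (j - i)
  s_mul_r : ∀ i j, s i * r j = s (i + j)
  s_mul_s : ∀ i j, s i * s j = r (hf n + j - i)
  r_inj : Function.Injective r
  s_inj : Function.Injective s
  r_ne_s : ∀ i j, r i ≠ s j
  mem_iff : ∀ g, g ∈ S ↔ (∃ i, g = r i) ∨ ∃ i, g = s i

theorem exists_Qt_of {G : Type*} [Group G] {S : Subgroup G} {n : ℕ} (hn : 2 ≤ n) {a b : G}
    (ha : orderOf a = 2 ^ n) (hb : b * b = a ^ 2 ^ (n - 1)) (hab : a * b = b * a⁻¹)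
    (hS : ∀ x, x ∈ S ↔ ∃ k : ℤ, x = a ^ k ∨ x = b * a ^ k) :
    ∃ D : Qt S n, D.r 1 = a ∧ D.s 0 = b := by
  have h1 : a ^ 2 ^ n = 1 := by rw [← ha, pow_orderOf_eq_one]
  have hb' : b ∉ zpowers a := by
    rintro ⟨k, rfl⟩
    rw [((Commute.refl a).zpow_right k).eq, mul_right_inj, eq_inv_iff_mul_eq_one, ← sq,
      ← orderOf_dvd_iff_pow_eq_one, ha, ← pow_one 2, ← pow_mul,
      Nat.pow_dvd_pow_iff_le_right one_lt_two] at hab
    omega
  refine ⟨⟨hn, zp a, fun i => b * zp a i, fun i j => (zp_add h1 i j).symm, fun i j => ?_,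
    fun i j => ?_, fun i j => ?_, zp_injective ha, fun i j h => zp_injective ha (mul_left_cancel h),
    fun i j h => hb' ?_, fun g => ?_⟩, zp_one h1, by simp [zp_zero]⟩
  · rw [← mul_assoc, zp_mul_of_inverts h1 hab, mul_assoc, ← zp_add h1, neg_add_eq_sub]
  · rw [mul_assoc, zp_add h1]
  · rw [mul_assoc, ← mul_assoc (zp a i), zp_mul_of_inverts h1 hab, ← mul_assoc, ← mul_assoc, hb,
      ← zp_natCast h1, ← zp_add h1, ← zp_add h1]
    congr 1
    simp only [hf]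
    push_cast
    ring
  · rw [← mul_inv_eq_iff_eq_mul] at h
    exact h ▸ mul_mem (zp_mem_zpowers a i) (inv_mem (zp_mem_zpowers a j))
  · rw [hS]
    constructor
    · rintro ⟨k, rfl | rfl⟩
      exacts [.inl ⟨k, (zp_intCast h1 k).symm⟩, .inr ⟨k, by rw [zp_intCast h1 k]⟩]
    · rintro (⟨i, rfl⟩ | ⟨i, rfl⟩)
      exacts [⟨_, .inl rfl⟩, ⟨_, .inr rfl⟩]

theorem exists_Qt {G : Type*} [Group G] {S : Subgroup G} (hS : IsPGroup 2 S) {m : ℕ} (hm : 2 ≤ m)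
    (e : S ≃* QuaternionGroup m) : ∃ n, Nonempty (Qt S n) := by
  have : NeZero m := ⟨by omega⟩
  have : Finite S := Finite.of_equiv _ e.symm.toEquiv
  obtain ⟨k, hk⟩ := hS.exists_card_eq
  rw [Nat.card_congr e.toEquiv, Nat.card_eq_fintype_card, QuaternionGroup.card] at hk
  obtain ⟨n, -, rfl⟩ := (Nat.dvd_prime_pow Nat.prime_two).mp (hk ▸ dvd_mul_left m 4)
  obtain ⟨f, hf, hS⟩ := exists_hom_of_equiv e
  obtain ⟨D, -⟩ := exists_Qt_of (S := S) (n := n + 1) (a := f (.a 1)) (b := f (.xa 0))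
    (by rcases n with _ | n <;> simp at hm ⊢)
    (by rw [orderOf_injective f hf, QuaternionGroup.orderOf_a_one, pow_succ'])
    (by rw [← map_mul, ← map_pow]; simp) 
    (by rw [eq_mul_inv_iff_mul_eq, ← map_mul, ← map_mul]; simp)
    fun x => by
      rw [hS]
      constructor
      · rintro ⟨i | i, rfl⟩
        · exact ⟨i.val, .inl (by rw [zpow_natCast, ← map_pow]; simp)⟩
        · exact ⟨i.val, .inr (by rw [zpow_natCast, ← map_pow, ← map_mul]; simp)⟩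
      · rintro ⟨k, rfl | rfl⟩
        exacts [⟨_, (map_zpow f _ k).symm⟩, ⟨_, by rw [← map_zpow, ← map_mul]⟩]
  exact ⟨_, ⟨D⟩⟩

namespace Qt

variable {Ω Ω' : Type*} [Group Ω] [Group Ω'] {S : Subgroup Ω} {S' : Subgroup Ω'}
  {F E : FusionSystem S} {F' : FusionSystem S'} {n : ℕ} (D : Qt S n)

attribute [simp] r_mul_r r_mul_s s_mul_r s_mul_s r_ne_s

include D in
theorem h2 : 2 * hf n = 0 := two_mul_hf (by have := D.hn; omega)

include D in
theorem h0 : hf n ≠ 0 := hf_ne_zero (by have := D.hn; omega)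

include D in
theorem hq : 2 * qt n = hf n := two_mul_qt D.hn

theorem r_zero : D.r 0 = 1 := by simpa [-r_mul_r] using D.r_mul_r 0 0

@[simp] theorem r_inj_iff {i j : ZMod (2 ^ n)} : D.r i = D.r j ↔ i = j := D.r_inj.eq_iff

@[simp] theorem s_inj_iff {i j : ZMod (2 ^ n)} : D.s i = D.s j ↔ i = j := D.s_inj.eq_iff

@[simp] theorem s_ne_r (i j : ZMod (2 ^ n)) : D.s i ≠ D.r j := (D.r_ne_s j i).symm

@[simp] theorem r_eq_one {i : ZMod (2 ^ n)} : D.r i = 1 ↔ i = 0 := by rw [← D.r_zero, r_inj_iff]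

@[simp] theorem s_ne_one (i : ZMod (2 ^ n)) : D.s i ≠ 1 := D.r_zero ▸ D.s_ne_r i 0

@[simp] theorem inv_r (i : ZMod (2 ^ n)) : (D.r i)⁻¹ = D.r (-i) :=
  inv_eq_of_mul_eq_one_right (by simp)

@[simp] theorem inv_s (i : ZMod (2 ^ n)) : (D.s i)⁻¹ = D.s (i + hf n) :=
  inv_eq_of_mul_eq_one_right (by simp; linear_combination D.h2)

theorem r_mem (i : ZMod (2 ^ n)) : D.r i ∈ S := (D.mem_iff _).2 (.inl ⟨i, rfl⟩)

theorem s_mem (i : ZMod (2 ^ n)) : D.s i ∈ S := (D.mem_iff _).2 (.inr ⟨i, rfl⟩)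

theorem r_pow (i : ZMod (2 ^ n)) (k : ℕ) : D.r i ^ k = D.r (i * k) := by
  induction k with
  | zero => simp [D.r_zero]
  | succ k ih => simp [pow_succ, ih, mul_add]

theorem r_zpow (i : ZMod (2 ^ n)) (k : ℤ) : D.r i ^ k = D.r (i * k) := by
  obtain ⟨k, rfl | rfl⟩ := k.eq_nat_or_neg <;> simp [D.r_pow]

include D in
theorem card_eq : Nat.card S = 2 ^ (n + 1) := by
  rw [card_eq_of_param (Sum.elim D.r D.s) (D.r_inj.sumElim D.s_inj D.r_ne_s) (by simp [D.mem_iff])]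
  simp [pow_succ, mul_two]

include D in
theorem isPGroup : IsPGroup 2 S := IsPGroup.of_card D.card_eq

include D in
theorem finite : Finite S := Nat.finite_of_card_ne_zero (by rw [D.card_eq]; positivity)

/-- The coordinates shifted by one. -/
def shift : Qt S n where
  hn := D.hn
  r := D.r
  s i := D.s (i + 1)
  r_mul_r := D.r_mul_r
  r_mul_s i j := by rw [D.r_mul_s]; congr 1; ring
  s_mul_r i j := by rw [D.s_mul_r]; congr 1; ring
  s_mul_s i j := by rw [D.s_mul_s]; congr 1; ring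
  r_inj := D.r_inj
  s_inj i j h := add_right_cancel (D.s_inj h)
  r_ne_s i j := D.r_ne_s i _
  mem_iff g := by
    rw [D.mem_iff]
    refine or_congr_right ⟨?_, ?_⟩
    · rintro ⟨i, rfl⟩; exact ⟨i - 1, by simp⟩
    · rintro ⟨i, rfl⟩; exact ⟨_, rfl⟩

/-- The quaternion subgroups of order eight. -/
def q8 (k : ZMod (2 ^ n)) : Subgroup Ω where
  carrier := {x | ∃ e, x = D.r (qt n * e) ∨ x = D.s (k + qt n * e)}
  one_mem' := ⟨0, .inl (by simp [D.r_zero])⟩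
  mul_mem' := by
    rintro _ _ ⟨e, rfl | rfl⟩ ⟨e', rfl | rfl⟩
    · exact ⟨e + e', .inl (by simp; ring)⟩
    · exact ⟨e' - e, .inr (by simp; ring)⟩
    · exact ⟨e + e', .inr (by simp; ring)⟩
    · exact ⟨2 + e' - e, .inl (by simp; linear_combination -D.hq)⟩
  inv_mem' := by
    rintro _ ⟨e, rfl | rfl⟩
    · exact ⟨-e, .inl (by simp)⟩
    · exact ⟨e + 2, .inr (by simp; linear_combination -D.hq)⟩

theorem mem_q8 {k : ZMod (2 ^ n)} {x : Ω} :
    x ∈ D.q8 k ↔ ∃ e, x = D.r (qt n * e) ∨ x = D.s (k + qt n * e) := Iff.rfl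

theorem r_mem_q8 {k i : ZMod (2 ^ n)} : D.r i ∈ D.q8 k ↔ ∃ e, i = qt n * e := by simp [mem_q8]

theorem s_mem_q8 {k i : ZMod (2 ^ n)} : D.s i ∈ D.q8 k ↔ ∃ e, i = k + qt n * e := by simp [mem_q8]

theorem q8_le (k : ZMod (2 ^ n)) : D.q8 k ≤ S := by
  rintro _ ⟨e, rfl | rfl⟩
  exacts [D.r_mem _, D.s_mem _]

theorem w_mem (k : ZMod (2 ^ n)) : D.r (qt n) ∈ D.q8 k := D.r_mem_q8.2 ⟨1, by simp⟩

/-- The embedding of `Q₈` with image `q8 k`. -/
def q8Hom (k : ZMod (2 ^ n)) : QuaternionGroup 2 →* Ω :=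
  quatHom 2 (D.r (qt n)) (D.s k) (by simp [D.r_pow]; linear_combination 2 * D.hq + D.h2)
    (by simp [D.r_pow]; linear_combination -D.hq) (by simp [sub_eq_add_neg])

theorem q8Hom_injective (k : ZMod (2 ^ n)) : Function.Injective (D.q8Hom k) :=
  quatHom_injective (orderOf_eq_four_iff'.2 (by
    simp only [r_mul_r, ← two_mul, D.hq, D.h2, ne_eq, r_eq_one, D.h0]; simp))
    (by rintro ⟨j, hj⟩; simp [D.r_zpow] at hj)

theorem mem_q8_iff (k : ZMod (2 ^ n)) (x : Ω) : x ∈ D.q8 k ↔ ∃ q, x = D.q8Hom k q := by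
  rw [show (∃ q, x = D.q8Hom k q) ↔ x ∈ (D.q8Hom k).range from exists_congr fun _ => eq_comm,
    q8Hom, mem_range_quatHom, mem_q8]
  simp only [D.r_zpow, s_mul_r]
  exact ⟨fun ⟨e, he⟩ => by obtain ⟨e, rfl⟩ := ZMod.intCast_surjective e; exact ⟨e, he⟩,
    fun ⟨e, he⟩ => ⟨e, he⟩⟩

theorem q8Hom_a_one (k : ZMod (2 ^ n)) : D.q8Hom k (.a 1) = D.r (qt n) := by
  rw [q8Hom, quatHom_a, zp_one]
  simp [D.r_pow]; linear_combination 2 * D.hq + D.h2

theorem q8Hom_xa_zero (k : ZMod (2 ^ n)) : D.q8Hom k (.xa 0) = D.s k := by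
  rw [q8Hom, quatHom_xa, zp_zero, mul_one]

theorem eq_of_oddAut {X : Subgroup Ω} (hXS : X ≤ S) (β : OddAut X) (hβ : ∃ x ∈ X, β.φ x ≠ x) :
    ∃ k, X = D.q8 k ∧ β.φ (D.r (qt n)) = D.s k := by
  have h1n : 1 ≤ n := by have := D.hn; omega
  obtain ⟨x, hx, hβ⟩ := hβ
  have hR : ∀ x, x ∈ zpowers (D.r 1) ↔ ∃ i, x = D.r i := fun x =>
    ⟨fun ⟨k, hk⟩ => ⟨_, hk.symm.trans (D.r_zpow _ _)⟩, fun ⟨i, hi⟩ => by
      obtain ⟨i, rfl⟩ := ZMod.intCast_surjective i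
      exact ⟨i, by simp [hi, D.r_zpow]⟩⟩
  have : ¬ ∀ a ∈ X, a ∈ zpowers (D.r 1) → β.φ a ∈ zpowers (D.r 1) := fun h =>
    hβ (oddAut_triv D.isPGroup hXS
    (by
      intro a ha b hb
      obtain ⟨i, rfl⟩ := (hR a).1 ha
      obtain ⟨j, rfl⟩ := (hR b).1 hb
      simp [add_comm]) (z := D.r (hf n))
    (by
      intro a ha h
      obtain ⟨i, rfl⟩ := (hR a).1 ha
      simpa [← two_mul, two_mul_eq_zero_iff h1n] using h)
    (by
      intro x hx y hy hx' hy'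
      rw [hR] at hx' hy' ⊢
      obtain ⟨i, rfl⟩ := ((D.mem_iff x).1 hx).resolve_left hx'
      obtain ⟨j, rfl⟩ := ((D.mem_iff y).1 hy).resolve_left hy'
      simp) β h x hx)
  push Not at this
  obtain ⟨a, ha, haR, h⟩ := this
  obtain ⟨i, rfl⟩ := (hR a).1 haR
  rw [hR] at h
  obtain ⟨k, hk⟩ := ((D.mem_iff _).1 (hXS (β.mem _ ha))).resolve_left h
  have hr : ∀ l, D.r l ∈ X → ∃ e, l = qt n * e := by
    intro l hl
    have h1 := β.comm ha hl (by simp [add_comm])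
    have h2 : β.φ (D.r l ^ 4) = 1 := by
      rw [β.pow hl]
      rcases (D.mem_iff _).1 (hXS (β.mem _ hl)) with ⟨m, e⟩ | ⟨m, e⟩ <;> rw [e] at h1 ⊢
      · simp [hk] at h1
        simp [D.r_pow]
        linear_combination 2 * h1
      · simp [pow_succ]
        linear_combination D.h2
    rw [β.eq_one_iff (pow_mem hl 4), D.r_pow, D.r_eq_one] at h2
    exact (two_pow_mul_eq_zero_iff (k := 2) D.hn l).1 (by linear_combination h2)
  have h4 : i = qt n ∨ i = -qt n := by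
    have h5 : β.φ (D.r i * D.r i) = D.r (hf n) := by rw [β.mul _ ha _ ha, hk]; simp
    have h6 : β.φ (D.r i * D.r i * (D.r i * D.r i)) = 1 := by
      rw [β.mul _ (mul_mem ha ha) _ (mul_mem ha ha), h5]; simp [← two_mul, D.h2]
    rw [β.eq_one_iff (mul_mem (mul_mem ha ha) (mul_mem ha ha))] at h6
    simp only [r_mul_r, r_eq_one, ← two_mul, two_mul_eq_zero_iff h1n (2 * i)] at h6 h5
    refine (two_mul_eq_hf_iff D.hn i).1 (h6.resolve_left fun e => D.h0 ?_)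
    rwa [e, D.r_zero, β.one, eq_comm, r_eq_one] at h5
  obtain ⟨k, hw, hk⟩ : ∃ k, D.r (qt n) ∈ X ∧ β.φ (D.r (qt n)) = D.s k := by
    rcases h4 with rfl | rfl
    · exact ⟨k, ha, hk⟩
    · refine ⟨k + hf n, by simpa using inv_mem ha, ?_⟩
      rw [show D.r (qt n) = (D.r (-qt n))⁻¹ by simp, β.inv ha, hk, D.inv_s]
  have hkX := hk ▸ β.mem _ hw
  refine ⟨k, le_antisymm (fun y hy => ?_) ?_, hk⟩
  · rcases (D.mem_iff y).1 (hXS hy) with ⟨l, rfl⟩ | ⟨l, rfl⟩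
    · exact D.r_mem_q8.2 (hr l hy)
    · have h5 := mul_mem (inv_mem hkX) hy
      rw [D.inv_s, D.s_mul_s] at h5
      obtain ⟨e, he⟩ := hr _ h5
      exact D.s_mem_q8.2 ⟨e, by linear_combination he⟩
  · rintro _ ⟨e, rfl | rfl⟩ <;> obtain ⟨e, rfl⟩ := ZMod.intCast_surjective e
    · exact D.r_zpow _ _ ▸ zpow_mem hw e
    · simpa [D.r_zpow] using mul_mem hkX (zpow_mem hw e)

theorem conj_mem_q8 (i k : ZMod (2 ^ n)) {x : Ω} (hx : x ∈ D.q8 k) :
    D.r i * x * (D.r i)⁻¹ ∈ D.q8 (k - 2 * i) := by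
  obtain ⟨e, rfl | rfl⟩ := hx
  · exact ⟨e, .inl (by simp)⟩
  · exact ⟨e, .inr (by simp; ring)⟩

theorem isConj_s (k j : ZMod (2 ^ n)) : F.IsConjElt (D.s k) (D.s (k + 2 * j)) := by
  have := isConjElt_conj (F := F) (D.s_mem k) (D.r_mem (-j))
  rwa [inv_r, r_mul_s, s_mul_r, show k - -j + - -j = k + 2 * j by ring] at this

theorem conj_of_sp {P : Subgroup Ω} (hP : Sp F P) :
    ∃ k, P = D.q8 k ∧ F.IsConjElt (D.r (qt n)) (D.s k) := by
  obtain ⟨β, hβ, h⟩ := hP.2.2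
  obtain ⟨k, rfl, hk⟩ := eq_of_oddAut D hP.le β h
  exact ⟨k, rfl, hk ▸ Fus.isConjElt_of_M hβ (D.w_mem k)⟩

variable (hn : 3 ≤ n) (hF : F.IsSaturated 2)
include hn hF

theorem exists_move {k : ZMod (2 ^ n)} (h : F.IsConjElt (D.r (qt n)) (D.s k)) :
    ∃ g, SM F (D.q8 k) g ∧ ¬ (g (D.r (qt n)) = D.r (qt n) ∨ g (D.r (qt n)) = (D.r (qt n))⁻¹) := by
  have h1n : 1 ≤ n := by omega
  have := finite D
  by_contra hne
  obtain ⟨c, hc⟩ := qt_even hn
  have key := conj_induction D.isPGroup hF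
    (C := fun y => (∃ i, y = D.r i) ∨ ∃ j, y = D.s (k + 2 * j + 1)) (.inl ⟨_, rfl⟩) ?_ ?_ h
  · rcases key with ⟨i, e⟩ | ⟨j, e⟩
    · exact D.s_ne_r _ _ e
    · exact two_mul_ne h1n 0 j (by linear_combination D.s_inj e)
  · rintro s hs y - (⟨j, rfl⟩ | ⟨j, rfl⟩) <;>
      rcases (D.mem_iff s).1 hs with ⟨i, rfl⟩ | ⟨i, rfl⟩
    · exact .inl (by simp)
    · exact .inl (by simp)
    · exact .inr ⟨j - i, by simp; ring⟩
    · exact .inr ⟨i - k - j - 1, by simp; ring⟩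
  · intro P hP f hf y hy hC
    obtain ⟨β, hβ, h'⟩ := hP.2.2
    obtain ⟨m, rfl, hm⟩ := eq_of_oddAut D hP.le β h'
    rcases par (m - k) with ⟨j, hj⟩ | ⟨j, hj⟩
    · refine absurd ⟨_, SM.conj ⟨hβ, β.mem⟩ (D.r_mem j) (D.q8_le k) (fun x hx => ?_)
        (fun x hx => ?_), ?_⟩ hne
      · simpa [show m - 2 * j = k by linear_combination hj] using conj_mem_q8 D j _ hx
      · simpa [show k + 2 * j = m by linear_combination -hj] using conj_mem_q8 D (-j) _ hx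
      · simp [hm]
    · obtain ⟨e, e' | e'⟩ := hf.2 y hy
      · exact .inl ⟨_, e'⟩
      · exact .inr ⟨j + c * e, by rw [e']; congr 1; linear_combination hj + e * hc⟩

theorem M_of_conj {k : ZMod (2 ^ n)} (h : F.IsConjElt (D.r (qt n)) (D.s k)) {f : Ω → Ω}
    (hf' : SM E (D.q8 k) f) : M F (D.q8 k) f := by
  obtain ⟨g, hg, hg'⟩ := exists_move D hn hF h
  obtain ⟨e, he⟩ := qt_even hn
  have hm := D.mem_q8_iff k
  refine M_of_q8 (D.q8Hom k) (D.q8Hom_injective k) (Z := ⊥) (D.q8_le k) (by simpa using hm)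
    (fun f _ h2 _ q => (hm _).1 (h2 _ ((hm _).2 ⟨q, rfl⟩))) (fun f h1 c hc => ?_) hg
    (by rwa [D.q8Hom_a_one]) (SM_conj (D.q8_le k) (D.r_mem e) fun x hx => ?_) ?_ ?_ hf'
    fun c hc => ?_
  · rw [mem_bot.1 hc, h1.1.map_one]
  · obtain ⟨a, rfl | rfl⟩ := hx
    · exact ⟨a, .inl (by simp)⟩
    · exact ⟨a - 1, .inr (by simp; linear_combination he)⟩
  · rw [D.q8Hom_a_one]; simp
  · rw [D.q8Hom_xa_zero]
    simp only [r_mul_s, inv_r, s_mul_r, inv_s, s_inj_iff]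
    rintro (h1 | h1)
    · exact D.h0 (by linear_combination -2 * h1 + 2 * he - D.hq)
    · exact D.h0 (by linear_combination -2 * h1 - D.h2 + 2 * he - D.hq)
  · rw [mem_bot.1 hc, hf'.1.map_one]

theorem le_of_conj (hE : E.IsSaturated 2)
    (h : ∀ k, F.IsConjElt (D.r (qt n)) (D.s k) → E.IsConjElt (D.r (qt n)) (D.s k)) : F ≤ E := by
  have := finite D
  refine le_of_sp D.isPGroup hF fun P hP f hf => ?_
  obtain ⟨k, rfl, hk⟩ := conj_of_sp D hP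
  exact M_of_conj D hn hE (h k hk) hf

theorem exists_isoM (D' : Qt S' n) (hF' : F'.IsSaturated 2)
    (h : ∀ k, F.IsConjElt (D.r (qt n)) (D.s k) ↔ F'.IsConjElt (D'.r (qt n)) (D'.s k)) :
    ∃ a b, IsoM F F' a b := by
  obtain ⟨a, b, hab, hr, hs⟩ := exists_gIso_of_coord _ _ _ _ D.r D.s D'.r D'.s D.r_mul_r D.r_mul_s
    D.s_mul_r D.s_mul_s D'.r_mul_r D'.r_mul_s D'.s_mul_r D'.s_mul_s D.r_inj D.s_inj D.r_ne_s
    D'.r_inj D'.s_inj D'.r_ne_s D.mem_iff D'.mem_iff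
  have := finite D'
  refine ⟨a, b, isoM_of_eq D'.isPGroup hF' hab fun E hE hi => ?_⟩
  have key : ∀ k, F.IsConjElt (D.r (qt n)) (D.s k) ↔ E.IsConjElt (D.r (qt n)) (D.s k) := fun k => by
    rw [h, ← isoM_isConjElt_iff hi (D.r_mem _) (D.s_mem _), hr, hs]
  exact Fus.fs_le_antisymm (le_of_conj D hn hF hE fun k => (key k).1)
    (le_of_conj D hn hE hF fun k => (key k).2)

omit hn hF in
theorem conj_iff (k j : ZMod (2 ^ n)) :
    F.IsConjElt (D.r (qt n)) (D.s (2 * j + k)) ↔ F.IsConjElt (D.r (qt n)) (D.s k) :=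
  add_comm k _ ▸ ⟨fun h => Fus.isConjElt_trans h (Fus.isConjElt_symm (isConj_s D k j)),
    fun h => Fus.isConjElt_trans h (isConj_s D k j)⟩

theorem exists_isoM' (D' : Qt S' n) (hF' : F'.IsSaturated 2)
    (h₀ : F.IsConjElt (D.r (qt n)) (D.s 0) ↔ F'.IsConjElt (D'.r (qt n)) (D'.s 0))
    (h₁ : F.IsConjElt (D.r (qt n)) (D.s 1) ↔ F'.IsConjElt (D'.r (qt n)) (D'.s 1)) :
    ∃ a b, IsoM F F' a b := D.exists_isoM hn hF D' hF' fun k => by
  rcases par k with ⟨j, rfl⟩ | ⟨j, rfl⟩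
  · rw [← add_zero (2 * j), conj_iff, conj_iff, h₀]
  · rw [conj_iff, conj_iff, h₁]

end Qt

end Cfsg.Agent.QtF
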