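import Cfsg.Agent.Lib.Fus.QuatFus
import Cfsg.Agent.Lib.Mat.SL2
import Cfsg.Agent.Lib.Lie.Flag

/-!
All saturated fusion systems on dihedral, quaternion, quasi-dihedral and wreathed `2`-groups are
realizable, and have at most two classes of essential subgroups.
-/

set_option autoImplicit false

namespace Cfsg.Agent.QtF

open Subgroup TwoGrp Tr FusionSystem Fus2
open scoped MatrixGroups

theorem exists_qt_sylow {G : Type*} [Group G] [Finite G] {n w : ℕ} (hn : 2 ≤ n)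
    (hG : Nat.card G ∣ 2 ^ (n + 1) * w) (hw : ¬ 2 ∣ w) {a b : G}
    (ha : orderOf a = 2 ^ n) (hb : b * b = a ^ 2 ^ (n - 1)) (hab : a * b = b * a⁻¹) :
    ∃ (T : Sylow 2 G) (D : Qt (T : Subgroup G) n), D.r 1 = a ∧ D.s 0 = b := by
  obtain ⟨D, hD⟩ := exists_Qt_of hn ha hb hab fun x => mem_range_quatHom (m := 2 ^ (n - 1))
    (ha := by rw [← pow_succ', Nat.sub_add_cancel (by omega), ← ha, pow_orderOf_eq_one])
    (hb := hb) (hab := hab)
  refine ⟨D.isPGroup.toSylow fun h => hw (h.trans ?_), D, hD⟩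
  rwa [← card_mul_index _, D.card_eq, Nat.mul_dvd_mul_iff_left (by positivity)] at hG

theorem Qt.r_qt {G : Type*} [Group G] {S : Subgroup G} {n : ℕ} (D : Qt S n) :
    D.r (qt n) = D.r 1 ^ 2 ^ (n - 2) := by simp [D.r_pow, qt]

theorem exists_groups {n : ℕ} (hn : 3 ≤ n) :
    (∃ (G : Type) (_ : Group G) (_ : Finite G) (T : Sylow 2 G) (D : Qt (T : Subgroup G) n),
      IsConj (D.r (qt n)) (D.s 0) ∧ IsConj (D.r (qt n)) (D.s 1)) ∧
    ∃ (G : Type) (_ : Group G) (_ : Finite G) (T : Sylow 2 G) (D : Qt (T : Subgroup G) n),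
      IsConj (D.r (qt n)) (D.s 0) ∧ ¬ IsConj (D.r (qt n)) (D.s 1) := by
  obtain ⟨k, rfl⟩ : ∃ k, n = k + 3 := ⟨n - 3, by omega⟩
  obtain ⟨p, u, hp, h⟩ := exists_prime_sub (k + 2) (by omega)
  have : Fact p.Prime := ⟨hp⟩
  obtain ⟨K, _, _, _, hK0⟩ : ∃ (K : Type) (_ : Field K) (_ : Fintype K) (_ : CharP K p),
      Fintype.card K = p ^ 2 := by
    have := Fintype.ofFinite (GaloisField p 2)
    exact ⟨GaloisField p 2, inferInstance, this, inferInstance,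
      by rw [← Nat.card_eq_fintype_card, GaloisField.card p 2 two_ne_zero]⟩
  have hK : Fintype.card K = 2 ^ (k + 3) * (2 * (u + 2 ^ k * (2 * u + 1) ^ 2) + 1) + 1 := by
    rw [hK0, h]; ring
  have h2 := L2.two_ne (by omega) hK
  obtain ⟨ζ, hζ, -⟩ := L2.exists_zeta (by omega) hK
  obtain ⟨w, hw, hw'⟩ := L2.card_PSL (by omega) hK
  have hG := card_eq_card_quotient_mul_card_subgroup (center SL(2, K))
  rw [L2.card_center h2, show Nat.card (SL(2, K) ⧸ center SL(2, K)) = _ from hw, mul_right_comm,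
    ← pow_succ] at hG
  have hz : (ζ : K) ^ 2 ^ (k + 2) = -1 := by
    have h1 : ζ ^ 2 ^ (k + 2) * ζ ^ 2 ^ (k + 2) = 1 := by
      rw [← pow_add, ← two_mul, ← pow_succ', ← hζ, pow_orderOf_eq_one]
    rcases mul_self_eq_one_iff.1 (congrArg Units.val h1) with h | h
    · have := orderOf_dvd_of_pow_eq_one (show ζ ^ 2 ^ (k + 2) = 1 from Units.ext h)
      rw [hζ, Nat.pow_dvd_pow_iff_le_right one_lt_two] at this
      omega
    · exact h
  let dg : Kˣ →* SL(2, K) := MonoidHom.mk' L2.dg fun a b => Subtype.ext (by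
    simp [L2.coe_dg, mul_comm])
  have hdg : ∀ v, (dg v : Matrix (Fin 2) (Fin 2) K) = !![(v : K), 0; 0, (v : K)⁻¹] := fun v =>
    (L2.coe_dg v).trans (by simp)
  have ha : orderOf (dg ζ) = 2 ^ (k + 3) := by
    rw [orderOf_injective dg fun a b e => Units.ext (by
      simpa [hdg] using congrArg (fun M : SL(2, K) => M.1 0 0) e), hζ]
  have hzz : ((L2.wy * L2.wy : SL(2, K)) : Matrix (Fin 2) (Fin 2) K) = -1 := by
    refine Mat.m2_ext ?_ ?_ ?_ ?_ <;> simp [L2.coe_wy]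
  have hb : (L2.wy * L2.wy : SL(2, K)) = dg ζ ^ 2 ^ (k + 3 - 1) := Subtype.ext (by
    rw [← map_pow, hzz, hdg]
    refine Mat.m2_ext ?_ ?_ ?_ ?_ <;> simp [hz])
  have hab : dg ζ * L2.wy = L2.wy * (dg ζ)⁻¹ := Subtype.ext (by
    rw [← map_inv]
    simp [hdg, L2.coe_wy])
  have hφ := Mat.isSL_coe (Fin 2) K
  constructor
  · obtain ⟨T, D, h1, h3⟩ := exists_qt_sylow (by omega) hG.dvd hw' ha hb hab
    obtain ⟨a, b, hab⟩ := Mat.exists_quad h2 (one_ne_zero) (one_ne_zero) (-1 : K)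
    rw [one_mul, one_mul] at hab
    obtain ⟨i, hi⟩ := hφ.surj _ Mat.det_mI
    obtain ⟨j, hj⟩ := hφ.surj _ (Mat.det_mJ hab)
    have key := hφ.isConj h2 hab (z := L2.wy * L2.wy) hzz hi hj
    refine ⟨_, inferInstance, inferInstance, T, D, ?_, ?_⟩ <;>
      exact (key _ (by simp [← h3, ← two_mul, D.hq])).symm.trans (key _ (by simp [← h3]))
  obtain ⟨τ, hτ⟩ : ∃ τ : SL(2, K) →* SL(2, K), ∀ M, (τ M).1 = M.1.map (frobenius K p) :=
    ⟨Matrix.SpecialLinearGroup.map (frobenius K p), fun _ => rfl⟩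
  obtain ⟨z, hz'⟩ : ∃ z, z = (L2.wy * L2.wy : SL(2, K)) := ⟨_, rfl⟩
  rw [← hz'] at hzz
  have zc := hφ.central (z := z) hzz
  have zz : z * z = 1 := Subtype.ext (by simp [hzz])
  have hσ : frobenius K p ζ = -ζ := by
    rw [frobenius_def, congrArg ((ζ : K) ^ ·) h, pow_succ, pow_mul, hz,
      (odd_two_mul_add_one u).neg_one_pow, neg_one_mul]
  have τa : τ (dg ζ) = dg ζ * z := Subtype.ext (by
    rw [hτ, Matrix.SpecialLinearGroup.coe_mul, hzz, hdg]
    refine Mat.m2_ext ?_ ?_ ?_ ?_ <;> simp [hσ])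
  have τb : τ L2.wy = L2.wy := Subtype.ext (by
    rw [hτ]
    refine Mat.m2_ext ?_ ?_ ?_ ?_ <;> simp [L2.coe_wy])
  have τw : τ (dg ζ ^ 2 ^ (k + 1)) = dg ζ ^ 2 ^ (k + 1) := by
    rw [map_pow, τa, (show Commute (dg ζ) z from zc _).mul_pow, pow_succ' 2, pow_mul z, sq, zz,
      one_pow, mul_one]
  let H : Subgroup SL(2, K) := Lie.toSub
    { carrier := {M | τ M = M ∨ τ M = M * z}
      one_mem' := .inl (map_one τ)
      mul_mem' := by
        rintro x y (hx | hx) (hy | hy) <;> simp only [Set.mem_ofPred_eq, map_mul, hx, hy]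
        · simp
        · simp [mul_assoc]
        · simp [mul_assoc, zc]
        · rw [mul_assoc, ← mul_assoc z, ← zc, mul_assoc, zz, mul_one]
          simp }
  obtain ⟨T, D, h1, h3⟩ := exists_qt_sylow (G := H) (by omega)
    (H.card_subgroup_dvd_card.trans hG.dvd) hw' (a := ⟨_, .inr τa⟩) (b := ⟨_, .inl τb⟩)
    ((orderOf_coe _).symm.trans ha) (Subtype.ext hb) (Subtype.ext hab)
  have hw : (D.r (qt (k + 3)) : SL(2, K)) = dg ζ ^ 2 ^ (k + 1) := by rw [D.r_qt, h1]; rfl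
  refine ⟨_, inferInstance, inferInstance, T, D, ?_, fun e => ?_⟩
  · obtain ⟨ι, hι⟩ : ∃ ι : K, ι = ζ ^ 2 ^ (k + 1) := ⟨_, rfl⟩
    have hιι : ι * ι = -1 := by rw [hι, ← pow_add, ← two_mul, ← pow_succ', hz]
    have hι' : ι⁻¹ = -ι := inv_eq_of_mul_eq_one_right (by rw [mul_neg, hιι, neg_neg])
    have hσι : frobenius K p ι = ι := by
      rw [hι, map_pow, hσ, pow_succ' 2, pow_mul, pow_mul, neg_sq]
    obtain ⟨c, hc⟩ : ∃ c : SL(2, K), c.1 = !![1, ι / 2; ι, 1 / 2] := hφ.surj _ (by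
      simp only [Matrix.det_fin_two_of]
      field_simp
      linear_combination -hιι)
    refine isConj_iff.2 ⟨⟨c, .inl (Subtype.ext ?_)⟩,
      mul_inv_eq_iff_eq_mul.2 (Subtype.ext (Subtype.ext ?_))⟩
    · rw [hτ, hc]
      refine Mat.m2_ext ?_ ?_ ?_ ?_ <;> simp [hσι, map_ofNat]
    · simp only [Subgroup.coe_mul, hw, h3, ← map_pow, Matrix.SpecialLinearGroup.coe_mul, hdg,
        L2.coe_wy, Units.val_pow_eq_pow_val, ← hι, hι', hc]
      refine Mat.m2_ext ?_ ?_ ?_ ?_ <;> simp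
      · linear_combination -hιι / 2
      · exact hιι
      · ring
  · obtain ⟨⟨c, hc⟩, e⟩ := isConj_iff.1 e
    have e1 : c * dg ζ ^ 2 ^ (k + 1) * c⁻¹ = L2.wy * dg ζ := by
      rw [show D.s 1 = D.s 0 * D.r 1 by simp, h1, h3] at e
      exact hw ▸ congrArg Subtype.val e
    have e2 := congrArg τ e1
    rw [map_mul, map_mul, map_mul, map_inv, τw, τa, τb, ← mul_assoc, ← e1] at e2
    have e3 : z = 1 := by
      rcases hc with hc | hc <;> rw [hc] at e2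
      · simpa using e2
      · rw [mul_assoc c, ← zc, mul_inv_rev, ← mul_assoc, ← mul_assoc, mul_inv_cancel_right] at e2
        simpa using e2
    exact Mat.neg_one_ne_one h2 (by rw [← hzz, e3]; rfl)

universe u

variable {Ω : Type u} [Group Ω] {S : Subgroup Ω} {F : FusionSystem S} {n : ℕ}

/-- At most two classes of essential subgroups. -/
def TwoCl (F : FusionSystem S) : Prop :=
  ∀ E₁ E₂ E₃ : Subgroup Ω, F.IsEssential 2 E₁ → F.IsEssential 2 E₂ → F.IsEssential 2 E₃ →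
    F.IsConj E₁ E₂ ∨ F.IsConj E₁ E₃ ∨ F.IsConj E₂ E₃

theorem isConj_of_conj_mem {P Q : Subgroup Ω} (hP : P ≤ S) {g : Ω} (hg : g ∈ S)
    (h : ∀ x ∈ P, g * x * g⁻¹ ∈ Q) (h' : ∀ x ∈ Q, g⁻¹ * x * g ∈ P) : F.IsConj P Q := by
  convert Fus.isConj_conj hP hg
  ext x
  exact ⟨fun hx => ⟨_, h' x hx, by simp [mul_assoc]⟩, by rintro ⟨y, hy, rfl⟩; exact h y hy⟩

theorem isConj_centralizer {G : Type*} [Group G] {z x y : G} (hx : x ∈ centralizer {z})
    (hy : y ∈ centralizer {z}) (h : IsConj x y) (hx' : x * x = z) (hy' : y * y = z) :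
    IsConj (⟨x, hx⟩ : centralizer {z}) ⟨y, hy⟩ := by
  obtain ⟨g, rfl⟩ := _root_.isConj_iff.1 h
  rw [conj_mul, hx', mul_inv_eq_iff_eq_mul] at hy'
  exact _root_.isConj_iff.2 ⟨⟨g, mem_centralizer_singleton_iff.2 hy'⟩, rfl⟩

theorem eq_of_isConj_centralizer {G : Type*} [Group G] {z : G} {hz : z ∈ centralizer {z}}
    {y : centralizer {z}} (h : IsConj ⟨z, hz⟩ y) : y = ⟨z, hz⟩ := by
  obtain ⟨g, rfl⟩ := _root_.isConj_iff.1 h
  exact mul_inv_eq_iff_eq_mul.2 (Subtype.ext (mem_centralizer_singleton_iff.1 g.2))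

variable (hF : F.IsSaturated 2)
include hF

theorem sp_of_isEssential [Finite S] (hS : IsPGroup 2 S) {P : Subgroup Ω}
    (hP : F.IsEssential 2 P) : Sp F P :=
  (sp_or hS hF (.inr hP)).resolve_right fun h => (Fus.lt_of_isEssential hS hF hP).ne h.1

theorem twoCl_of [Finite S] (hS : IsPGroup 2 S) {A B : Subgroup Ω → Prop}
    (hA : ∀ P Q, A P → A Q → F.IsConj P Q) (hB : ∀ P Q, B P → B Q → F.IsConj P Q)
    (h : ∀ P, Sp F P → A P ∨ B P) : TwoCl F := fun E₁ E₂ E₃ h₁ h₂ h₃ => by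
  rcases h _ (sp_of_isEssential hF hS h₁) with a | a <;>
    rcases h _ (sp_of_isEssential hF hS h₂) with b | b <;>
      rcases h _ (sp_of_isEssential hF hS h₃) with c | c <;> solve_by_elim [Or.inl, Or.inr]

theorem twoCl_of_par [Finite S] (hS : IsPGroup 2 S) (V : ZMod (2 ^ n) → Subgroup Ω)
    (hV : ∀ k j, F.IsConj (V k) (V (k - 2 * j))) (h : ∀ P, Sp F P → ∃ k, P = V k) : TwoCl F := by
  refine twoCl_of hF hS (A := fun P => ∃ j, P = V (2 * j)) (B := fun P => ∃ j, P = V (2 * j + 1))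
    ?_ ?_ fun P hP => ?_
  · rintro _ _ ⟨i, rfl⟩ ⟨j, rfl⟩
    convert hV _ (i - j) using 2
    ring
  · rintro _ _ ⟨i, rfl⟩ ⟨j, rfl⟩
    convert hV _ (i - j) using 2
    ring
  · obtain ⟨k, rfl⟩ := h P hP
    exact (par k).imp (fun ⟨j, e⟩ => ⟨j, e ▸ rfl⟩) fun ⟨j, e⟩ => ⟨j, e ▸ rfl⟩

theorem realizable_of_sp [Finite S] (hS : IsPGroup 2 S) (h : ∀ P, Sp F P → P = S) :
    F.IsRealizable 2 :=
  isRealizable_of_normal hS hF ((Fus.isNormal_top_iff hS hF).2 fun _ hE =>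
    (Fus.lt_of_isEssential hS hF hE).ne (h _ (sp_of_isEssential hF hS hE))) fun _ hx => hx.1

theorem main_dih (D : Dih S n) (hn : 2 ≤ n) : TwoCl F ∧ F.IsRealizable 2 := by
  have := DihF.finite D
  have hS := DihF.isPGroup D
  refine ⟨twoCl_of_par hF hS D.V (fun k j => isConj_of_conj_mem (D.V_le k) (D.r_mem j)
    (fun x hx => DihF.conj_mem_V D j k hx) fun x hx => by simpa using DihF.conj_mem_V D (-j) _ hx)
    fun P hP => (DihF.conj_of_sp D hP).imp fun _ h => h.1, ?_⟩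
  by_cases h : ∀ k, F.IsConjElt (D.r (hf n)) (D.s k)
  · obtain ⟨p, _, -, h⟩ := realizedIn_psl2 hF D hn h
    exact h.isRealizable
  by_cases h' : ∃ k, F.IsConjElt (D.r (hf n)) (D.s k)
  · obtain ⟨G, _, _, T, D', ⟨k, h₁⟩, ⟨l, h₂⟩⟩ := exists_pgl2 hn
    obtain ⟨a, b, e⟩ := DihF.exists_isoM_one D hn hF D' (Fus.group_isSaturated T) h'
      (not_forall.1 h) ⟨k, (group_isConjElt_iff (D'.r_mem _) (D'.s_mem _)).2 h₁⟩
      ⟨l, fun h => h₂ ((group_isConjElt_iff (D'.r_mem _) (D'.s_mem _)).1 h)⟩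
    exact (realizedIn_of_isoM T e).isRealizable
  exact realizable_of_sp hF hS fun P hP => absurd ((DihF.conj_of_sp D hP).imp fun _ h => h.2) h'

theorem main_qt (D : Qt S n) : TwoCl F ∧ F.IsRealizable 2 := by
  have := D.finite
  have hS := D.isPGroup
  refine ⟨twoCl_of_par hF hS D.q8 (fun k j => isConj_of_conj_mem (D.q8_le k) (D.r_mem j)
    (fun x hx => D.conj_mem_q8 j k hx) fun x hx => by simpa using D.conj_mem_q8 (-j) _ hx)
    fun P hP => (D.conj_of_sp hP).imp fun _ h => h.1, ?_⟩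
  rcases D.hn.eq_or_lt with rfl | hn
  · refine realizable_of_sp hF hS fun P hP => ?_
    obtain ⟨k, rfl, -⟩ := D.conj_of_sp hP
    refine le_antisymm (D.q8_le k) fun x hx => ?_
    rcases (D.mem_iff x).1 hx with ⟨i, rfl⟩ | ⟨i, rfl⟩
    exacts [⟨i, .inl (by simp [qt])⟩, ⟨i - k, .inr (by simp [qt])⟩]
  obtain ⟨⟨G, _, _, T, D₁, h₁, h₂⟩, G', _, _, T', D₂, h₃, h₄⟩ := exists_groups hn
  rw [← group_isConjElt_iff (D₁.r_mem _) (D₁.s_mem _)] at h₁ h₂
  rw [← group_isConjElt_iff (D₂.r_mem _) (D₂.s_mem _)] at h₃ h₄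
  by_cases k₀ : F.IsConjElt (D.r (qt n)) (D.s 0) <;> by_cases k₁ : F.IsConjElt (D.r (qt n)) (D.s 1)
  · obtain ⟨a, b, e⟩ := D.exists_isoM' hn hF D₁ (Fus.group_isSaturated T) (iff_of_true k₀ h₁)
      (iff_of_true k₁ h₂)
    exact (realizedIn_of_isoM T e).isRealizable
  · obtain ⟨a, b, e⟩ := D.exists_isoM' hn hF D₂ (Fus.group_isSaturated T') (iff_of_true k₀ h₃)
      (iff_of_false k₁ h₄)
    exact (realizedIn_of_isoM T' e).isRealizable
  · obtain ⟨a, b, e⟩ := D.shift.exists_isoM' hn hF D₂ (Fus.group_isSaturated T')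
      (iff_of_true (by simpa [Qt.shift] using k₁) h₃) (iff_of_false (fun e => k₀
        ((D.conj_iff 0 1).1 (by simpa [Qt.shift, one_add_one_eq_two] using e))) h₄)
    exact (realizedIn_of_isoM T' e).isRealizable
  · refine realizable_of_sp hF hS fun P hP => ?_
    obtain ⟨k, -, hk⟩ := D.conj_of_sp hP
    rcases par k with ⟨j, rfl⟩ | ⟨j, rfl⟩
    · exact absurd ((D.conj_iff 0 j).1 (by rwa [add_zero])) k₀
    · exact absurd ((D.conj_iff 1 j).1 hk) k₁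

theorem main_qd (D : QD S n) : TwoCl F ∧ F.IsRealizable 2 := by
  have := QDF.finite D
  have hS := QDF.isPGroup D
  refine ⟨twoCl_of hF hS (A := fun P => IsKleinFour P ∧ P ≤ S) (B := fun P => ∃ j, P = D.q8 j)
    (fun P Q hP hQ => ?_) ?_ fun P hP => (QDF.conj_of_sp D hP).imp (fun h => ⟨h.1, hP.le⟩)
      (Exists.imp fun _ h => h.1), ?_⟩
  · obtain ⟨g, hg, hg'⟩ := D.four_conj hP.1 hP.2 hQ.1 hQ.2
    have := finite_of_le hQ.2
    exact isConj_of_conj_mem hP.2 hg hg'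
      (conj_inv_mem hg' (by rw [hP.1.card_four, hQ.1.card_four]))
  · rintro _ _ ⟨i, rfl⟩ ⟨j, rfl⟩
    obtain ⟨c, hc⟩ := D.q8_conj i j
    have := finite_of_le (D.q8_le j)
    exact isConj_of_conj_mem (D.q8_le i) (D.r_mem c) hc
      (conj_inv_mem hc (by rw [D.card_q8, D.card_q8]))
  by_cases h₁ : F.IsConjElt (D.r (hf n)) (D.s 0) <;> by_cases h₂ : F.IsConjElt (D.r (qt n)) (D.s 1)
  · obtain ⟨p, _, -, h⟩ := realizedIn_psl3_qd hF D h₁ h₂
    exact h.isRealizable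
  · obtain ⟨G, _, _, T, D', h₁', h₂'⟩ := exists_mq D.hn
    obtain ⟨a, b, e⟩ := QDF.exists_isoM D hF D' (Fus.group_isSaturated T)
      (iff_of_true h₁ ((group_isConjElt_iff (D'.r_mem _) (D'.s_mem _)).2 h₁'))
      (iff_of_false h₂ fun h => h₂' ((group_isConjElt_iff (D'.r_mem _) (D'.s_mem _)).1 h))
    exact (realizedIn_of_isoM T e).isRealizable
  · obtain ⟨p, _, -, T, D', -, h₂'⟩ := exists_psl3_qd D.hn
    have hT : (T : Subgroup _) ≤ centralizer {D'.r (hf n)} := fun x hx =>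
      mem_centralizer_singleton_iff.2 (D'.z_comm hx)
    let D₀ : QD (T.subtype hT).1 n := D'.subtype hT
    obtain ⟨a, b, e⟩ := QDF.exists_isoM D hF D₀ (Fus.group_isSaturated _)
      (iff_of_false h₁ fun h => D₀.r_ne_s _ _ (eq_of_isConj_centralizer
        ((group_isConjElt_iff (D₀.r_mem _) (D₀.s_mem _)).1 h)).symm)
      (iff_of_true h₂ ((group_isConjElt_iff (D₀.r_mem _) (D₀.s_mem _)).2 (isConj_centralizer _ _ h₂'
        (by simp [← two_mul, D.hq]) (by simp))))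
    exact (realizedIn_of_isoM _ e).isRealizable
  · exact realizable_of_sp hF hS fun P hP => ((QDF.conj_of_sp D hP).elim (fun h => h₁ h.2)
      fun ⟨_, h⟩ => h₂ h.2).elim

theorem wr_le (D : Wr S n) {E : FusionSystem S} (hE : E.IsSaturated 2)
    (h₁ : ∀ y, F.IsConjElt (D.r (hf n) (hf n)) y → y = D.r (hf n) (hf n))
    {a b c d : ZMod (2 ^ n)} (h₂ : E.IsConjElt (D.r a b) (D.s c d)) : F ≤ E := by
  have := WrF.finite D
  refine le_of_sp D.isPGroup hF fun P hP f hf => ?_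
  obtain ⟨β, hβ, h'⟩ := hP.2.2
  rcases D.eq_of_oddAut hP.le hP.mem β h' with rfl | ⟨a, rfl⟩
  · obtain ⟨x, hx, h'⟩ := h'
    have e1 := h₁ _ (Fus.isConjElt_of_M hβ (D.r_mem_U _ _))
    have key : ∀ t ∈ D.T, ∀ s ∈ D.T, s = t ∨ s = 1 ∨ t = 1 ∨ s = D.r (TwoGrp.hf n) (TwoGrp.hf n) ∨
        t = D.r (TwoGrp.hf n) (TwoGrp.hf n) ∨ s = D.r (TwoGrp.hf n) (TwoGrp.hf n) * t :=
      fun t ht s hs => by
        rcases D.mem_T.1 ht with rfl | rfl | rfl | rfl <;>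
          rcases D.mem_T.1 hs with rfl | rfl | rfl | rfl <;> simp [D.h2']
    refine absurd (β.eq_of_omega le_rfl (D.isPGroup.to_le D.U_le) (fun a ha b hb => D.U_comm ha hb)
      β.mem (fun t ht htt => ?_) x hx) h'
    rcases key t (D.mem_T_iff.2 ⟨ht, htt⟩) _ (D.mem_T_iff.2 ⟨β.mem t ht, β.sq_eq_one ht htt⟩) with
      e | e | rfl | e | rfl | e
    · exact e
    · rw [e, (β.eq_one_iff ht).1 e]
    · exact β.one
    · rw [e, β.inj ht (D.r_mem_U _ _) (e.trans e1.symm)]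
    · exact e1
    · simpa [D.h0] using β.eq_one_of_eq_mul ht (D.r_mem_U _ _) e e1 (k := 1)
        (by simp [sq, D.h2'])
  · exact WrF.M_of_X D hE h₂ hF hf

theorem main_wr (D : Wr S n) : TwoCl F ∧ F.IsRealizable 2 := by
  have := WrF.finite D
  have hS := D.isPGroup
  refine ⟨twoCl_of hF hS (A := fun P => P = D.U) (B := fun P => ∃ a, P = D.dif (hf n) (2 * a))
    (by rintro _ _ rfl rfl; exact Fus.isConj_refl D.U_le) ?_ fun P hP => ?_, ?_⟩
  · rintro _ _ ⟨i, rfl⟩ ⟨k, rfl⟩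
    refine isConj_of_conj_mem (D.dif_le _ _) (D.r_mem (k - i) 0) (fun x hx => ?_) fun x hx => ?_
    · have := D.conj_mem_dif (k - i) hx
      rwa [show 2 * i + 2 * (k - i) = 2 * k by ring] at this
    · have := D.conj_mem_dif (i - k) hx
      rw [show 2 * k + 2 * (i - k) = 2 * i by ring] at this
      simpa using this
  · obtain ⟨β, -, h'⟩ := hP.2.2
    exact D.eq_of_oddAut hP.le hP.mem β h'
  by_cases h₂ : ∃ x ∈ D.U, ∃ y ∉ D.U, F.IsConjElt x y
  swap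
  · exact isRealizable_of_normal hS hF (WrF.isNormal_U D hF h₂) (WrF.centralizerIn_U D)
  by_cases h₁ : ∃ y, F.IsConjElt (D.r (hf n) (hf n)) y ∧ y ≠ D.r (hf n) (hf n)
  · obtain ⟨p, _, -, h⟩ := realizedIn_psl3_wr hF D h₁ h₂
    exact h.isRealizable
  push Not at h₁
  obtain ⟨x, hx, y, hy, h₂⟩ := h₂
  obtain ⟨a₀, b₀, c₀, d₀, h₂⟩ := WrF.exists_coord D hx hy h₂
  obtain ⟨p, _, -, T, D', -, h₂'⟩ := exists_psl3_wr D.hn
  have hT : (T : Subgroup _) ≤ centralizer {D'.r (hf n) (hf n)} := fun x hx =>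
    mem_centralizer_singleton_iff.2 (D'.Z_comm hx (by simp))
  let D₁ : Wr (T.subtype hT).1 n := D'.subtype hT
  obtain ⟨a, b, hab, hr, hs⟩ := exists_gIso_of_coord (S := S) (S' := (T.subtype hT).1)
    (fun i j : ZMod (2 ^ n) × ZMod (2 ^ n) => (i.1 + j.1, i.2 + j.2))
    (fun i j => (i.1 + j.1, i.2 + j.2)) (fun i j => (i.1 + j.2, i.2 + j.1))
    (fun i j => (i.1 + j.2, i.2 + j.1)) (fun i => D.r i.1 i.2) (fun i => D.s i.1 i.2)
    (fun i => D₁.r i.1 i.2) (fun i => D₁.s i.1 i.2) (by simp) (by simp) (by simp) (by simp)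
    (by simp) (by simp) (by simp) (by simp)
    (fun i j h => Prod.ext (D.r_inj _ _ _ _ h).1 (D.r_inj _ _ _ _ h).2)
    (fun i j h => Prod.ext (D.s_inj _ _ _ _ h).1 (D.s_inj _ _ _ _ h).2) (by simp)
    (fun i j h => Prod.ext (D₁.r_inj _ _ _ _ h).1 (D₁.r_inj _ _ _ _ h).2)
    (fun i j h => Prod.ext (D₁.s_inj _ _ _ _ h).1 (D₁.s_inj _ _ _ _ h).2) (by simp)
    (by simp [D.mem_iff]) (fun x => (D₁.mem_iff x).trans (by simp))
  have hr' : ∀ i j, a (D.r i j) = D₁.r i j := fun i j => hr (i, j)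
  have hs' : ∀ i j, a (D.s i j) = D₁.s i j := fun i j => hs (i, j)
  refine (realizedIn_of_isoM (T.subtype hT) (isoM_of_eq D₁.isPGroup (Fus.group_isSaturated _) hab
    fun E hE hi => Fus.fs_le_antisymm (wr_le hF D hE h₁ (a := qt n) (b := -qt n) (c := 0)
      (d := hf n) ?_) (wr_le hE D hF (fun y hy => ?_) h₂))).isRealizable
  · rw [← isoM_isConjElt_iff hi (D.r_mem _ _) (D.s_mem _ _), hr', hs',
      group_isConjElt_iff (D₁.r_mem _ _) (D₁.s_mem _ _)]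
    exact isConj_centralizer _ _ h₂'.symm (by simp [← two_mul, D.hq, D.hneg]) (by simp)
  · have h3 := Fus.isConjElt_right_mem hy
    rw [← isoM_isConjElt_iff hi (D.r_mem _ _) h3, hr',
      group_isConjElt_iff (D₁.r_mem _ _) (hab.mem y h3)] at hy
    rw [← hab.left y h3, eq_of_isConj_centralizer hy]
    exact (congrArg b (hr' _ _).symm).trans (hab.left _ (D.r_mem _ _))

end Cfsg.Agent.QtF
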