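import Cfsg.Agent.Lib.ZJ.Tate2
import Cfsg.Agent.Lib.Fus.Centric
import Cfsg.Agent.Lib.Fus.Group

/-!
A nilpotency criterion by weakly embedded subgroups of one order.
-/

set_option autoImplicit false

namespace Cfsg.Agent.Fus

open Cfsg Cfsg.FusionSystem Cfsg.Agent.Fus2 Cfsg.Agent.ZJF

variable {Ω : Type*} [Group Ω] {S : Subgroup Ω} {F : FusionSystem S} {p : ℕ}

theorem exists_card_between [Fact p.Prime] {A B : Subgroup Ω} [Finite B] (hB : IsPGroup p B)
    (hAB : A ≤ B) {k : ℕ} (h1 : Nat.card A ≤ p ^ k) (h2 : p ^ k ≤ Nat.card B) :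
    ∃ H, A ≤ H ∧ H ≤ B ∧ Nat.card H = p ^ k := by
  have hp := (Fact.out : p.Prime).one_lt
  have := Fus.finite_of_le hAB
  obtain ⟨a, ha⟩ := IsPGroup.iff_card.1 (isPGroup_of_le hB hAB)
  obtain ⟨b, hb⟩ := IsPGroup.iff_card.1 hB
  rw [ha, Nat.pow_le_pow_iff_right hp] at h1
  rw [hb, Nat.pow_le_pow_iff_right hp] at h2
  obtain ⟨K, hK, hAK⟩ := Sylow.exists_subgroup_card_pow_prime_le p (hb ▸ pow_dvd_pow p h2)
    (A.subgroupOf B) ((Nat.card_congr (Subgroup.subgroupOfEquivOfLe hAB).toEquiv).trans ha) h1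
  refine ⟨K.map B.subtype, fun x hx => ⟨⟨x, hAB hx⟩, hAK hx, rfl⟩, Subgroup.map_subtype_le K, ?_⟩
  rw [← hK]
  exact (Nat.card_congr (K.equivMapOfInjective _ B.subtype_injective).toEquiv).symm

theorem mul_card_le_of_lt [Fact p.Prime] {A B : Subgroup Ω} [Finite A] [Finite B]
    (hA : IsPGroup p A) (hB : IsPGroup p B) (h : Nat.card A < Nat.card B) :
    ∃ k, Nat.card A = p ^ k ∧ p ^ (k + 1) ≤ Nat.card B := by
  have hp := (Fact.out : p.Prime).one_lt
  obtain ⟨a, ha⟩ := IsPGroup.iff_card.1 hA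
  obtain ⟨b, hb⟩ := IsPGroup.iff_card.1 hB
  rw [ha, hb, Nat.pow_lt_pow_iff_right hp] at h
  exact ⟨a, ha, hb ▸ Nat.pow_le_pow_right hp.le h⟩

theorem pow_eq_one_of_map_conj (hS : IsPGroup p S) {V : Subgroup Ω} {ψ : Ω → Ω} (hψ : M F V ψ)
    {α : MulAut V} {s : Ω} (hs : s ∈ S) (e : ∀ x ∈ V, ψ (afn α x) = s * ψ x * s⁻¹) :
    ∃ k : ℕ, α ^ p ^ k = 1 := by
  obtain ⟨k, hk⟩ := hS ⟨s, hs⟩
  have hk' : s ^ p ^ k = 1 := by simpa using congrArg Subtype.val hk
  have key : ∀ m : ℕ, ∀ x ∈ V, ψ (afn (α ^ m) x) = s ^ m * ψ x * (s ^ m)⁻¹ := by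
    intro m
    induction m with
    | zero => intro x _; simp [afn_one]
    | succ m ih =>
      intro x hx
      rw [pow_succ', afn_mul, e _ (afn_mem _ hx), ih x hx, pow_succ']
      group
  refine ⟨k, aut_ext fun x hx => hψ.inj _ (afn_mem _ hx) _ (afn_mem _ hx) ?_⟩
  rw [key _ x hx, hk', afn_one]
  simp

/-- Every subgroup of order `d` is weakly embedded. -/
def AllWE (F : FusionSystem S) (d : ℕ) : Prop :=
  ∀ Q, Q ≤ S → Nat.card Q = d →
    ∃ P, F.StronglyClosed P ∧ F.StronglyClosed (Q ⊔ P) ∧ F.StronglyClosed (Q ⊓ P)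

theorem AllWE.exists_card [Finite S] [Fact p.Prime] (hS : IsPGroup p S) {k : ℕ}
    (hA : AllWE F (p ^ k)) {V : Subgroup Ω} (hV : V ≤ S) (hc : p ^ k ≤ Nat.card V)
    (L : Subgroup Ω → Prop) (hle : ∀ A, L A → A ≤ V ∧ V ≤ Subgroup.normalizer (A : Set Ω))
    (hinf : ∀ A P, L A → F.StronglyClosed P → L (A ⊓ P)) (hsup : ∀ A B, L A → L B → L (A ⊔ B))
    (htop : L V) : ∃ H, L H ∧ Nat.card H = p ^ k := by
  have hfin : ∀ C : Subgroup Ω → Prop, {A | L A ∧ C A}.Finite := fun C =>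
    (finite_subgroups_le (S := S)).subset fun A hA => (hle A hA.1).1.trans hV
  have h0 : L ⊥ := by simpa using hinf V ⊥ htop (sc_bot F)
  obtain ⟨N, ⟨hN, hNd⟩, hmax⟩ := Set.exists_max_image _ (fun A : Subgroup Ω => Nat.card A)
    (hfin fun A => Nat.card A ≤ p ^ k)
    ⟨⊥, h0, by simpa using Nat.one_le_pow _ _ (Fact.out : p.Prime).pos⟩
  by_contra hcon
  push Not at hcon
  have hNd' : Nat.card N < p ^ k := lt_of_le_of_ne hNd (hcon N hN)
  have hNV : N < V := lt_of_le_of_ne (hle N hN).1 fun h => by rw [h] at hNd'; omega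
  obtain ⟨M, ⟨hM, hNM⟩, hmin⟩ := Set.exists_min_image _ (fun A : Subgroup Ω => Nat.card A)
    (hfin fun A => N < A) ⟨V, htop, hNV⟩
  have hMS := (hle M hM).1.trans hV
  have hMd : p ^ k < Nat.card M := by
    by_contra h
    have := hmax M ⟨hM, not_lt.1 h⟩
    have := card_lt_of_lt' hMS hNM
    omega
  have := Fus.finite_of_le hMS
  obtain ⟨H, hNH, hHM, hH⟩ := exists_card_between (isPGroup_of_le hS hMS) hNM.le hNd hMd.le
  have hHS := hHM.trans hMS
  obtain ⟨P, hP, hHP, hHP'⟩ := hA H hHS hH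
  have hmin' : ∀ A, L A → N ≤ A → A ≤ M → A = N ∨ A = M := fun A hA h1 h2 => by
    by_cases h : A = N
    · exact Or.inl h
    · exact Or.inr (eq_of_le_of_card_ge' hMS h2 (hmin A ⟨hA, lt_of_le_of_ne h1 (Ne.symm h)⟩))
  have hHN : ¬ H ≤ N := fun h => by
    have := card_le_of_le' (hNH.trans hHS) h
    omega
  have h1 : M ≤ H ⊔ P := by
    rcases hmin' _ (hinf M _ hM hHP) (le_inf hNM.le (hNH.trans le_sup_left)) inf_le_left with h | h
    · exact absurd ((le_inf hHM le_sup_left).trans h.le) hHN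
    · exact h.ge.trans inf_le_right
  rcases hmin' _ (hsup _ _ (hinf M P hM hP) hN) le_sup_right (sup_le inf_le_left hNM.le) with h | h
  · have h2 : M ≤ H := fun m hm => by
      obtain ⟨a, ha, b, hb, rfl⟩ := (mem_sup_iff_of_sc hP hHS).1 (h1 hm)
      exact H.mul_mem ha (hNH (h.le (Subgroup.mem_sup_left
        ⟨(M.mul_mem_cancel_left (hHM ha)).1 hm, hb⟩)))
    have := card_le_of_le' hHS h2
    omega
  · have h2 : H = (M ⊓ (H ⊓ P)) ⊔ N := by
      refine le_antisymm (fun x hx => ?_) (sup_le (inf_le_right.trans inf_le_left) hNH)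
      obtain ⟨a, ha, b, hb, rfl⟩ := (mem_sup_of_le_normalizer
        ((inf_le_left.trans (hle M hM).1).trans (hle N hN).2)).1 (h.ge (hHM hx))
      exact Subgroup.mul_mem _ (Subgroup.mem_sup_left
        ⟨ha.1, (H.mul_mem_cancel_right (hNH hb)).1 hx, ha.2⟩) (Subgroup.mem_sup_right hb)
    exact hcon H (h2 ▸ hsup _ _ (hinf M _ hM hHP') hN) hH

variable [Finite S] [hp : Fact p.Prime] (hS : IsPGroup p S) (hF : F.IsSaturated p)
include hS hF

theorem AllWE.pow_eq_one {k : ℕ} (hA : AllWE F (p ^ k))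
    (hB : ∀ H, F.IsFullyNormalized H → Nat.card H = p ^ k → Good F (innerFusionSystem S) H)
    {V : Subgroup Ω} (hV : V ≤ S) (hc : p ^ k ≤ Nat.card V) {α : MulAut V}
    (hα : α ∈ F.autGroup V) : ∃ n : ℕ, α ^ p ^ n = 1 := by
  have hM := M_afn hV hα
  obtain ⟨H, ⟨⟨hHV, hn⟩, hi⟩, hH⟩ := hA.exists_card hS hV hc
    (fun A => (A ≤ V ∧ V ≤ Subgroup.normalizer (A : Set Ω)) ∧ ∀ x ∈ A, afn α x ∈ A)
    (fun A h => h.1)
    (fun A P h hP => ⟨⟨inf_le_left.trans h.1.1, (le_inf h.1.2 (hV.trans (sc_le_normalizer hP))).trans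
      Subgroup.inf_normalizer_le_normalizer_inf⟩,
      fun x hx => ⟨h.2 x hx.1, hM.mem_of_sc hP (h.1.1 hx.1) hx.2⟩⟩)
    (fun A B h h' => ⟨⟨sup_le h.1.1 h'.1.1, (le_inf h.1.2 h'.1.2).trans
      (Subgroup.normalizer_inf_normalizer_le_normalizer_sup A B)⟩,
      ((homOn_afn α).mono (sup_le h.1.1 h'.1.1)).mem_of_sup
        (fun x hx => Subgroup.mem_sup_left (h.2 x hx)) fun x hx => Subgroup.mem_sup_right (h'.2 x hx)⟩)
    ⟨⟨le_rfl, Subgroup.le_normalizer⟩, fun x hx => afn_mem α hx⟩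
  obtain ⟨ψ, hψ, hfn⟩ := sat_exists_normalizer_map hS hF (hHV.trans hV)
  have hVN : V ≤ normalizerIn S H := le_inf hV hn
  have hψV := hψ.mono hVN
  obtain ⟨g, hg, -, e1, hgm, e2⟩ := hψV.inv' rfl
  have hk := (hg.comp hM hgm).comp hψV fun x hx => afn_mem α (hgm x hx)
  obtain ⟨-, s, hs, es⟩ := M_inner_iff.1 (hB _ hfn ((hψV.mono hHV).card_img.trans hH) _ _ hk
    (img_mono ψ hHV) (img_le_iff.2 fun x hx => hψV.homOn.mem_normalizer hHV hx (hn hx))
    fun y hy => by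
      obtain ⟨x, hx, rfl⟩ := (hψV.mono hHV).mem_img.1 hy
      rw [e1 x (hHV hx)]
      exact mem_img_of_mem ψ (hi x hx))
  refine pow_eq_one_of_map_conj hS hψV hs fun x hx => ?_
  rw [← es _ (mem_img_of_mem ψ hx), e1 x hx]

theorem hyp_le_of_sc_of_aut {R : Subgroup Ω} (hR : F.StronglyClosed R)
    (h : ∀ V, V ≤ S → R ≤ V → ∀ α ∈ F.autGroup V, ∃ n : ℕ, α ^ p ^ n = 1) :
    F.hyperfocalSubgroup p ≤ R := by
  refine hyp_le_iff.2 fun P hP α hα hc => ?_
  obtain ⟨g, hg, e⟩ := exists_ext_mod_sc hS hF hR (M_afn hP hα)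
  obtain ⟨γ, hγ, eγ⟩ := hg.exists_aut' (hg.homOn.mem_of_sup (fun x hx => by
      rw [← mul_inv_cancel_left (afn α x) (g x)]
      exact Subgroup.mul_mem _ (Subgroup.mem_sup_left (afn_mem α hx))
        (Subgroup.mem_sup_right (e x hx)))
    fun x hx => Subgroup.mem_sup_right (hg.mem_of_sc hR (Subgroup.mem_sup_right hx) hx))
  obtain ⟨n, hn⟩ := h _ hg.le le_sup_right γ hγ
  have key : ∀ m : ℕ, ∀ x ∈ P, (afn (α ^ m) x)⁻¹ * afn (γ ^ m) x ∈ R := by
    intro m
    induction m with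
    | zero => intro x _; simp [afn_one]
    | succ m ih =>
      intro x hx
      have h1 := afn_mem (α ^ m) hx
      have h2 := afn_mem (γ ^ m) (Subgroup.mem_sup_left hx : x ∈ P ⊔ R)
      have h3 := ih x hx
      rw [pow_succ', pow_succ', afn_mul, afn_mul, eγ _ h2,
        ← mul_inv_cancel_left (afn (α ^ m) x) (afn (γ ^ m) x),
        hg.map_mul (Subgroup.mem_sup_left h1) (Subgroup.mem_sup_right h3), ← mul_assoc]
      exact R.mul_mem (e _ h1) (hg.mem_of_sc hR (Subgroup.mem_sup_right h3) h3)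
  have h1 : α ^ p ^ n ∈ trivMod P R := mem_trivMod.2 fun x hx => by
    have := key (p ^ n) x hx
    rw [hn, afn_one] at this
    simpa using R.inv_mem this
  exact mem_trivMod.1 (Subgroup.zpowers_le.2 h1 (mem_zpowers_pow_iff.2 (hc.symm.pow_left n)))

theorem hyp_eq_bot_of_central (hc : F.hyperfocalSubgroup p ≤ Subgroup.centralizer (S : Set Ω))
    (htop : ∀ f, M F S f → M (innerFusionSystem S) S f) : F.hyperfocalSubgroup p = ⊥ := by
  have hfix : ∀ P f, M F P f → ∀ x ∈ P, x ∈ F.hyperfocalSubgroup p → f x = x := by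
    intro P f hf x hx hxT
    have h1 : Subgroup.zpowers x ≤ P := Subgroup.zpowers_le.2 hx
    have h2 : Subgroup.zpowers x ≤ F.hyperfocalSubgroup p := Subgroup.zpowers_le.2 hxT
    have h3 : img (Subgroup.zpowers x) f ≤ F.hyperfocalSubgroup p :=
      img_le_iff.2 fun y hy => hf.mem_of_sc (sc_hyp hS hF) (h1 hy) (h2 hy)
    obtain ⟨g, hg, e⟩ := sat_ext_centralizer hS hF (hf.mono h1)
      (isFullyCentralized_of_central (h3.trans (hyp_le F p))
        (Subgroup.le_centralizer_iff.1 (h3.trans hc)))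
    have h4 : S ≤ Subgroup.zpowers x ⊔ centralizerIn S (Subgroup.zpowers x) :=
      (le_inf le_rfl (Subgroup.le_centralizer_iff.1 (h2.trans hc))).trans le_sup_right
    obtain ⟨-, s, hs, es⟩ := M_inner_iff.1 (htop g (hg.mono h4))
    rw [← e x (Subgroup.mem_zpowers x), es x (hf.le hx), hc hxT s hs, mul_inv_cancel_right]
  refine le_bot_iff.1 (hyp_le_iff.2 fun P hP α hα hα' x hx => ?_)
  have := Fus.finite_of_le hP
  obtain ⟨k, hk⟩ := exists_pow_eq_one_of_fix (Q := F.hyperfocalSubgroup p) (isPGroup_of_le hS hP)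
    (α := α) (hfix _ _ (M_afn hP hα)) fun x hx => mem_hyp_of_coprime hP hα hα' hx
  rw [orderOf_eq_one_iff.1 ((hα'.pow_right k).eq_one_of_dvd (orderOf_dvd_of_pow_eq_one hk)),
    afn_one]
  simp

theorem hyp_le_of_commutator_le {N : Subgroup Ω} (hN : F.StronglyClosed N)
    (hc : ⁅F.hyperfocalSubgroup p, S⁆ ≤ N)
    (htop : ∀ f, M F S f → M (innerFusionSystem S) S f) : F.hyperfocalSubgroup p ≤ N := by
  have := sc_normal_subgroupOf hN
  obtain ⟨D, hD⟩ := exists_isFactorSystem_mk' hN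
  have hθ := surjM_of_factor hS hF hD hN
  have hker := factor_ker hD
  have := hθ.finite
  have h1 := hyp_eq_bot_of_central (hθ.isPGroup hS) (hθ.saturated hS hF) (by
    rw [hθ.hyp_eq, img_le_iff]
    intro x hx y hy
    obtain ⟨s, hs, rfl⟩ := hθ.surj hy
    have hxS := hyp_le F p hx
    rw [← (homOn_fn _).map_mul hs hxS, ← (homOn_fn _).map_mul hxS hs,
      fn_eq_iff (S.mul_mem hs hxS) (S.mul_mem hxS hs), hker]
    apply hc
    have := Subgroup.commutator_mem_commutator (Subgroup.inv_mem _ hx) (S.inv_mem hs)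
    simpa [commutatorElement_def, mul_assoc] using this) (by
    intro f hf
    obtain ⟨g, hg, e⟩ := hθ.lift _ _ hf
    rw [hθ.pre_top] at hg e
    obtain ⟨-, s, hs, es⟩ := M_inner_iff.1 (htop g hg)
    refine M_inner_iff.2 ⟨le_rfl, _, hθ.mem hs, fun y hy => ?_⟩
    obtain ⟨x, hx, rfl⟩ := hθ.surj hy
    rw [e x hx, es x hx, (homOn_fn _).map_conj hs hx])
  rw [hθ.hyp_eq, eq_bot_iff, img_le_iff] at h1
  intro x hx
  rw [← hker]
  exact mem_pre.2 ⟨hyp_le F p hx, h1 x hx⟩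

/-- Tate's theorem modulo a strongly closed subgroup. -/
theorem hyp_le_of_coatoms {N : Subgroup Ω} (hN : F.StronglyClosed N)
    (h : ∀ Y : Subgroup S, IsCoatom Y → N ≤ Y.map S.subtype →
      F.hyperfocalSubgroup p ≤ Y.map S.subtype) : F.hyperfocalSubgroup p ≤ N := by
  have := sc_normal_subgroupOf hN
  obtain ⟨D, hD⟩ := exists_isFactorSystem_mk' hN
  have hθ := surjM_of_factor hS hF hD hN
  have hker := factor_ker hD
  have := hθ.finite
  have h1 := hyp_le_of_le_frattini_sup (hθ.isPGroup hS) (hθ.saturated hS hF) (V := ⊥) bot_le (by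
    refine le_trans ?_ le_sup_left
    rw [hθ.hyp_eq, img_le_iff]
    intro x hx
    have hxS := hyp_le F p hx
    refine ⟨⟨_, trivial⟩, ?_, rfl⟩
    simp only [frattini, Order.radical, SetLike.mem_coe, Subgroup.mem_iInf]
    intro Y hY
    let θ : S →* (⊤ : Subgroup (S ⧸ N.subgroupOf S)) :=
      (QuotientGroup.mk' (N.subgroupOf S)).codRestrict ⊤ fun _ => trivial
    have hs : Function.Surjective θ := fun y => by
      obtain ⟨x, hx⟩ := QuotientGroup.mk'_surjective _ y.1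
      exact ⟨x, Subtype.ext hx⟩
    obtain ⟨y, hy, rfl⟩ := h _ (Subgroup.isCoatom_comap_of_surjective hs hY) (fun n hn => by
      refine ⟨⟨n, hN.1 hn⟩, ?_, rfl⟩
      have : θ ⟨n, hN.1 hn⟩ = 1 := Subtype.ext ((QuotientGroup.eq_one_iff _).2 hn)
      simp only [Subgroup.coe_comap, Set.mem_preimage, this, SetLike.mem_coe, one_mem]) hx
    have e : θ y = ⟨fn (QuotientGroup.mk' (N.subgroupOf S)) (S.subtype y), trivial⟩ :=
      Subtype.ext (fn_coe _ y).symm
    exact e ▸ hy)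
    (fun s _ x hx => by rw [Subgroup.mem_bot.1 hx]; simp)
  rw [hθ.hyp_eq, img_le_iff] at h1
  intro x hx
  rw [← hker]
  exact mem_pre.2 ⟨hyp_le F p hx, h1 x hx⟩

theorem AllWE.inner {k : ℕ} (hA : AllWE F (p ^ k)) (hk : p ^ k < Nat.card S)
    (hB : ∀ H, F.IsFullyNormalized H → Nat.card H = p ^ k → Good F (innerFusionSystem S) H) :
    Inner F := by
  have h3 : ∀ R, F.StronglyClosed R → p ^ k ≤ Nat.card R → F.hyperfocalSubgroup p ≤ R :=
    fun R hR hc => hyp_le_of_sc_of_aut hS hF hR fun V hV hRV α hα =>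
      hA.pow_eq_one hS hF hB hV (hc.trans (card_le_of_le' hV hRV)) hα
  have htop : ∀ f, M F S f → M (innerFusionSystem S) S f := fun f hf => by
    obtain ⟨α, hα, e⟩ := hf.exists_aut' fun x hx => hf.mem hx
    rw [autGroup_top_eq_Inn_of_isPGroup hS hF fun β => by
      obtain ⟨n, hn⟩ := hA.pow_eq_one hS hF hB le_rfl hk.le β.2
      exact ⟨n, Subtype.ext hn⟩] at hα
    obtain ⟨g, hg, eg⟩ := Fus.mem_Inn_iff.1 hα
    exact M_inner_iff.2 ⟨le_rfl, g, hg, fun x hx => by rw [← e x hx, afn_apply α hx, eg]⟩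
  refine inner_of_hyp_le_frattini hS hF (le_trans ?_ bot_le)
  by_contra h0
  have hT := sc_hyp hS hF
  set T := F.hyperfocalSubgroup p with hTdef
  obtain ⟨N, ⟨hN, hTN⟩, hmax⟩ := Set.exists_max_image {A | F.StronglyClosed A ∧ ¬ T ≤ A}
    (fun A : Subgroup Ω => Nat.card A)
    ((finite_subgroups_le (S := S)).subset fun A hA => hA.1.1) ⟨⊥, sc_bot F, h0⟩
  have hmax' : ∀ R, F.StronglyClosed R → N < R → T ≤ R := fun R hR hNR => by
    by_contra h
    have := hmax R ⟨hR, h⟩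
    have := card_lt_of_lt' hR.1 hNR
    omega
  have hNd : Nat.card N < p ^ k := not_le.1 fun h => hTN (h3 N hN h)
  refine hTN (hyp_le_of_coatoms hS hF hN fun Y hY hNX => ?_)
  set X := Y.map S.subtype with hX
  by_contra hTX
  have hXS : X ≤ S := Subgroup.map_subtype_le Y
  have := Fus.finite_of_le hXS
  have hXd : p ^ k ≤ Nat.card X := by
    by_contra h
    obtain ⟨H, h1, h2, h4⟩ := exists_card_between hS hXS (not_le.1 h).le hk.le
    have h5 : Y < H.subgroupOf S := lt_of_le_of_ne (fun y hy => h1 ⟨y, hy, rfl⟩) fun e => by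
      have : H ≤ X := fun x hx => ⟨⟨x, h2 hx⟩, e ▸ hx, rfl⟩
      have := card_le_of_le' hXS this
      omega
    have := card_le_of_le' h2 (Subgroup.subgroupOf_eq_top.1 (hY.2 _ h5))
    omega
  have hNK : N < X ⊓ (T ⊔ N) := lt_of_le_of_ne (le_inf hNX le_sup_right) fun e => by
    refine hTN (hyp_le_of_commutator_le hS hF hN (le_trans (le_inf ?_ ?_) e.ge) htop)
    · exact (Subgroup.commutator_mono hT.1 le_rfl).trans ((commutator_le_map_frattini hS).trans
        (Subgroup.map_mono (frattini_le_coatom hY)))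
    · refine le_trans (Subgroup.commutator_le.2 fun t ht s hs => ?_) le_sup_left
      rw [commutatorElement_def, mul_assoc, mul_assoc, ← mul_assoc s]
      exact T.mul_mem ht (sc_conj_mem hT hs (T.inv_mem ht))
  have := Fus.finite_of_le (inf_le_left : X ⊓ (T ⊔ N) ≤ X)
  have := Fus.finite_of_le hN.1
  have hKp := isPGroup_of_le hS ((inf_le_left : X ⊓ (T ⊔ N) ≤ X).trans hXS)
  obtain ⟨j, hj, hj'⟩ := mul_card_le_of_lt (isPGroup_of_le hS hN.1) hKp (card_lt_of_lt hNK)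
  obtain ⟨K, hNK', hKX, hK⟩ := exists_card_between hKp hNK.le
    (hj ▸ Nat.pow_le_pow_right hp.out.pos (Nat.le_succ j)) hj'
  have hjk : j + 1 ≤ k := by rwa [hj, Nat.pow_lt_pow_iff_right hp.out.one_lt] at hNd
  obtain ⟨H, hKH, hHX, hH⟩ := exists_card_between (isPGroup_of_le hS hXS) (hKX.trans inf_le_left)
    (hK ▸ Nat.pow_le_pow_right hp.out.pos hjk) hXd
  have hKN : ¬ K ≤ N := fun h => by
    have h1 := card_le_of_le' hN.1 h
    rw [hK, hj, Nat.pow_le_pow_iff_right hp.out.one_lt] at h1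
    omega
  obtain ⟨P, hP, hHP, hHP'⟩ := hA H (hHX.trans hXS) hH
  by_cases hPN : P ≤ N
  · rw [sup_eq_left.2 (hPN.trans (hNK'.trans hKH))] at hHP
    exact hTX ((hmax' H hHP (lt_of_le_of_ne (hNK'.trans hKH) fun e => hKN (hKH.trans e.ge))).trans
      hHX)
  · have h1 := hmax' _ (sc_sup hS hF hP hN) (lt_of_le_of_ne le_sup_right fun e =>
      hPN (le_sup_left.trans e.ge))
    have h2 : K ≤ (H ⊓ P) ⊔ N := fun x hx => by
      obtain ⟨a, ha, b, hb, rfl⟩ := (mem_sup_iff_of_sc hN hP.1).1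
        (sup_le h1 le_sup_right (hKX hx).2)
      exact Subgroup.mul_mem _ (Subgroup.mem_sup_left
        ⟨(H.mul_mem_cancel_right (hKH (hNK' hb))).1 (hKH hx), ha⟩) (Subgroup.mem_sup_right hb)
    exact hTX ((hmax' _ (sc_sup hS hF hHP' hN) (lt_of_le_of_ne le_sup_right fun e =>
      hKN (h2.trans e.ge))).trans (sup_le (inf_le_left.trans hHX) hNX))

theorem inner_iff_weaklyEmbedded (hcard : p ^ 2 ≤ Nat.card S) :
    (∀ P : Subgroup Ω, F.Hom P = (innerFusionSystem S).Hom P) ↔ ∃ D : Subgroup Ω, ⊥ < D ∧ D < S ∧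
      (∀ Q : Subgroup Ω, Q ≤ S → Nat.card Q = Nat.card D → ∃ P : Subgroup Ω, F.StronglyClosed P ∧
        F.StronglyClosed (Q ⊔ P) ∧ F.StronglyClosed (Q ⊓ P)) ∧
      (∀ H : Subgroup Ω, F.IsFullyNormalized H → Nat.card H = Nat.card D →
        ∀ N : FusionSystem (normalizerIn S H), F.IsNormalizerSystem H N →
          ∀ P : Subgroup Ω, N.Hom P = (innerFusionSystem (normalizerIn S H)).Hom P) := by
  have hp1 := hp.out.one_lt
  rw [hom_eq_iff_inner]
  constructor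
  · intro h
    obtain ⟨n, hn⟩ := IsPGroup.iff_card.1 hS
    rw [hn, Nat.pow_le_pow_iff_right hp1] at hcard
    obtain ⟨m, rfl⟩ : ∃ m, n = m + 2 := ⟨n - 2, by omega⟩
    obtain ⟨D, -, hD, hc⟩ := exists_card_between (k := m + 1) hS bot_le
      (by simpa using Nat.one_le_pow _ _ hp.out.pos)
      (hn ▸ Nat.pow_le_pow_right hp.out.pos (Nat.le_succ _))
    have hlt : ∀ Q, Q ≤ S → Nat.card Q = p ^ (m + 1) → Q < S := fun Q hQ hc =>
      lt_of_le_of_ne hQ fun e => by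
        rw [e, hn, Nat.pow_right_inj hp1] at hc
        omega
    refine ⟨D, bot_lt_iff_ne_bot.2 fun e => ?_, hlt D hD hc, fun Q hQ hQc => ⟨⊥, sc_bot F, ?_, ?_⟩,
      fun H _ _ => hom_eq_of_good (h.good H)⟩
    · rw [e, Subgroup.card_bot, eq_comm, Nat.pow_eq_one] at hc
      omega
    · rw [sup_bot_eq]
      rw [hc] at hQc
      have h1 := lt_inf_normalizer hS (hlt Q hQ hQc)
      have := Fus.finite_of_le hQ
      have := Fus.finite_of_le (inf_le_left : S ⊓ Subgroup.normalizer (Q : Set Ω) ≤ S)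
      obtain ⟨j, hj, hj'⟩ := mul_card_le_of_lt (isPGroup_of_le hS hQ)
        (isPGroup_of_le hS inf_le_left) (card_lt_of_lt h1)
      rw [hQc, Nat.pow_right_inj hp1] at hj
      have h2 := eq_of_le_of_card_ge' le_rfl inf_le_left (by rw [hn]; exact hj ▸ hj')
      refine stronglyClosed_iff.2 ⟨hQ, fun P f hf x hx hxQ => ?_⟩
      obtain ⟨-, s, hs, e⟩ := M_inner_iff.1 (h P f hf)
      rw [e x hx]
      exact conj_mem_of_mem_normalizer (h2.ge hs).2 hxQ
    · rw [inf_bot_eq]; exact sc_bot F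
  · rintro ⟨D, -, hD, hA, hB⟩
    have := Fus.finite_of_le hD.le
    obtain ⟨k, hk⟩ := IsPGroup.iff_card.1 (isPGroup_of_le hS hD.le)
    rw [hk] at hA hB
    exact AllWE.inner hS hF hA (hk ▸ card_lt_of_lt hD) fun H hH hc =>
      good_inner_of_hom hH.1 (hB H hH hc)

end Cfsg.Agent.Fus
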